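import Groth.Agent.CplKaehler4.Domain
import Groth.Agent.S5080
import Mathlib

/-!
# Coordinates with prescribed differentials at a prime
-/

set_option autoImplicit false
universe u
open IsLocalRing

namespace Groth.Agent.H1CplK

open CplKaehler4

variable (k A : Type u) [Field k] [CommRing A] [IsLocalRing A] [IsNoetherianRing A] [Algebra k A]
  [IsAdicComplete (maximalIdeal A) A] [Module.Finite k (ResidueField A)]

/-- If the completed differentials are generated at `p` by `m` elements, they are generated by the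
differentials of `m` elements spanning an ideal of definition. -/
theorem exists_coords (p : Ideal A) [p.IsPrime] (hp : p ≠ maximalIdeal A)
    (hq : ∃ q ∈ minimalPrimes A, q ≤ p ∧ ringKrullDim (A ⧸ q) = ringKrullDim A) (m : ℕ)
    (hgen : ∃ s : Fin m → LocalizedModule p.primeCompl (AdicCompletion (maximalIdeal A) (Ω[A⁄k])),
      Submodule.span (Localization.AtPrime p) (Set.range s) = ⊤) :
    ∃ x : Fin m → A, (∀ i, x i ∈ maximalIdeal A) ∧ maximalIdeal A ≤ (Ideal.span (Set.range x)).radical ∧
      GenAt p (fun i => AdicCompletion.of (maximalIdeal A) (Ω[A⁄k]) (KaehlerDifferential.D k A (x i))) := by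
  classical
  let Q : ℕ → Prop := fun j => ∃ s : Fin j → LocalizedModule p.primeCompl (AdicCompletion (maximalIdeal A) (Ω[A⁄k])),
    Submodule.span (Localization.AtPrime p) (Set.range s) = ⊤
  have hex : ∃ j, Q j := ⟨m, hgen⟩
  set M := Nat.find hex with hM
  have hMs : Q M := Nat.find_spec hex
  have hMm : M ≤ m := Nat.find_min' hex hgen
  obtain ⟨r, y, hy, hr, hrad⟩ := CohenLib.exists_fin_sop A
  obtain ⟨q, hqmin, hqp, hqd⟩ := hq
  haveI : q.IsPrime := hqmin.1.1
  obtain ⟨s₀, hs₀⟩ := exists_genAt_of_localized p hMs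
  have hrM : r ≤ M := by
    have h := dim_quot_le_of_genAt k A p q hqp s₀ hs₀
    rw [hqd, hr] at h
    exact_mod_cast h
  obtain ⟨j, hj⟩ : ∃ j, y j ∉ p := by
    by_contra! hall
    refine hp (le_antisymm (le_maximalIdeal (Ideal.IsPrime.ne_top ‹_›)) ?_)
    exact hrad.trans ((Ideal.IsPrime.radical ‹p.IsPrime›) ▸
      Ideal.radical_mono (Ideal.span_le.mpr (Set.range_subset_iff.mpr hall)))
  let x : Fin M → A := fun i =>
    if h : (i : ℕ) < r then (if y ⟨i, h⟩ ∈ p then y ⟨i, h⟩ + y j else y ⟨i, h⟩) else y j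
  have hxp : ∀ i, x i ∈ maximalIdeal A ∧ x i ∉ p := by
    intro i
    simp only [x]
    split_ifs with h h'
    · exact ⟨add_mem (hy _) (hy _), fun hc => hj ((Submodule.add_mem_iff_right p h').mp hc)⟩
    · exact ⟨hy _, h'⟩
    · exact ⟨hy _, hj⟩
  obtain ⟨u, hu⟩ := Groth.Agent.S5080.result k A p hp M hMs (fun t ht => Nat.find_min' hex
    ⟨fun i => (t.equivFin.symm i : LocalizedModule p.primeCompl (AdicCompletion (maximalIdeal A) (Ω[A⁄k]))), by
      rw [show (Set.range fun i => ((t.equivFin.symm i : t) :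
          LocalizedModule p.primeCompl (AdicCompletion (maximalIdeal A) (Ω[A⁄k])))) = t from
        (t.equivFin.symm.surjective.range_comp _).trans Subtype.range_coe]
      exact ht⟩) x hxp
  let z : Fin m → A := fun i => if h : (i : ℕ) < M then (u ⟨i, h⟩ : A) * x ⟨i, h⟩ else 0
  have hz : ∀ i : Fin M, z (Fin.castLE hMm i) = (u i : A) * x i := fun i => by simp [z]
  refine ⟨z, fun i => ?_, hrad.trans (Ideal.radical_mono (Ideal.span_le.mpr ?_)), ?_⟩
  · simp only [z]
    split_ifs with h
    · exact Ideal.mul_mem_left _ _ (hxp _).1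
    · exact zero_mem _
  · have hx : ∀ i : Fin M, x i ∈ Ideal.span (Set.range z) := fun i => by
      have h := Ideal.mul_mem_left (Ideal.span (Set.range z)) (↑(u i)⁻¹ : A)
        (Ideal.subset_span ⟨_, hz i⟩)
      rwa [← mul_assoc, Units.inv_mul, one_mul] at h
    have hyj : y j ∈ Ideal.span (Set.range z) := by
      have h := hx (Fin.castLE hrM j)
      simp only [x] at h
      rw [dif_pos (show ((Fin.castLE hrM j : Fin M) : ℕ) < r from j.2)] at h
      rw [if_neg (by simpa using hj)] at h
      simpa using h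
    rintro _ ⟨i, rfl⟩
    have h := hx (Fin.castLE hrM i)
    simp only [x] at h
    rw [dif_pos (show ((Fin.castLE hrM i : Fin M) : ℕ) < r from i.2)] at h
    split_ifs at h
    · have h2 := Ideal.sub_mem _ h hyj
      simpa using h2
    · simpa using h
  · rw [genAt_iff_localized, eq_top_iff, ← hu, Submodule.span_le]
    rintro _ ⟨i, rfl⟩
    exact Submodule.subset_span ⟨Fin.castLE hMm i, by simp only [hz]⟩

/-- Unramified finite maps from power series. -/
theorem exists_unramified (p : Ideal A) [p.IsPrime] (hp : p ≠ maximalIdeal A)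
    (hq : ∃ q ∈ minimalPrimes A, q ≤ p ∧ ringKrullDim (A ⧸ q) = ringKrullDim A) (m : ℕ)
    (hgen : ∃ s : Fin m → LocalizedModule p.primeCompl (AdicCompletion (maximalIdeal A) (Ω[A⁄k])),
      Submodule.span (Localization.AtPrime p) (Set.range s) = ⊤) :
    ∃ (_ : Algebra (MvPowerSeries (Fin m) k) A) (_ : IsScalarTower k (MvPowerSeries (Fin m) k) A),
      IsLocalHom (algebraMap (MvPowerSeries (Fin m) k) A) ∧ Module.Finite (MvPowerSeries (Fin m) k) A ∧
        Algebra.IsUnramifiedAt (MvPowerSeries (Fin m) k) p := by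
  obtain ⟨x, hx, hrad, hg⟩ := exists_coords k A p hp hq m hgen
  obtain ⟨ψ, hψ, hfin, hloc⟩ := exists_algHom_finite k x hx hrad
  letI : Algebra (MvPowerSeries (Fin m) k) A := ψ.toRingHom.toAlgebra
  haveI : IsScalarTower k (MvPowerSeries (Fin m) k) A := IsScalarTower.of_algebraMap_eq fun c => (ψ.commutes c).symm
  haveI hfin' : Module.Finite (MvPowerSeries (Fin m) k) A := hfin
  refine ⟨_, ‹IsScalarTower k (MvPowerSeries (Fin m) k) A›, hloc, hfin', (genAt_iff_unramifiedAt p).mp ?_⟩
  rw [show (fun i => AdicCompletion.of (maximalIdeal A) (Ω[A⁄k]) (KaehlerDifferential.D k A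
      (algebraMap (MvPowerSeries (Fin m) k) A (MvPowerSeries.X i)))) =
    fun i => AdicCompletion.of (maximalIdeal A) (Ω[A⁄k]) (KaehlerDifferential.D k A (x i)) from
      funext fun i => by rw [show algebraMap (MvPowerSeries (Fin m) k) A (MvPowerSeries.X i) = x i from hψ i]]
  exact hg

end Groth.Agent.H1CplK
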