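import Groth.Agent.LC.CanonSupport
import Groth.Agent.CplKaehler4.Fibre
import Mathlib

/-!
# Height and generators at a prime with a regular local ring
-/

set_option autoImplicit false
universe u
open IsLocalRing TensorProduct

namespace Groth.Agent.H1CplK

open CplKaehler4

/-- Below a prime with a domain as local ring there is one minimal prime. -/
theorem le_of_le_of_isDomain {A : Type u} [CommRing A] (P q Q : Ideal A) [P.IsPrime] [Q.IsPrime]
    (hqmin : q ∈ minimalPrimes A) (hqP : q ≤ P) (hQP : Q ≤ P) [IsDomain (Localization.AtPrime P)] :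
    q ≤ Q ∧ q.map (algebraMap A (Localization.AtPrime P)) = ⊥ := by
  haveI : q.IsPrime := hqmin.1.1
  let q₀ : Ideal A := (⊥ : Ideal (Localization.AtPrime P)).comap (algebraMap A (Localization.AtPrime P))
  have hq0 : ∀ (R : Ideal A) [R.IsPrime], R ≤ P → q₀ ≤ R := by
    intro R hR hRP x hx
    obtain ⟨⟨c, hc⟩, hcx⟩ := (IsLocalization.map_eq_zero_iff P.primeCompl (Localization.AtPrime P) x).mp hx
    exact (hR.mem_or_mem (hcx ▸ R.zero_mem : c * x ∈ R)).resolve_left fun h => hc (hRP h)
  haveI : q₀.IsPrime := Ideal.comap_isPrime _ _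
  have heq : q = q₀ := le_antisymm (hqmin.2 ⟨‹_›, bot_le⟩ (hq0 q hqP)) (hq0 q hqP)
  refine ⟨heq ▸ hq0 Q hQP, ?_⟩
  rw [Ideal.map_eq_bot_iff_le_ker, heq]
  exact fun x hx => hx

/-- `ht P + dim A/P ≤ dim A/q`. -/
theorem height_add_le_of_isDomain {A : Type u} [CommRing A] [IsNoetherianRing A] (P q : Ideal A) [P.IsPrime]
    (hqmin : q ∈ minimalPrimes A) (hqP : q ≤ P) [IsDomain (Localization.AtPrime P)] :
    (P.height : WithBot ℕ∞) + ringKrullDim (A ⧸ P) ≤ ringKrullDim (A ⧸ q) := by
  obtain ⟨q', hq', hq'P, hle⟩ := LC.Canon.exists_prime_le_dim P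
  haveI := hq'
  exact hle.trans (ringKrullDim_le_of_surjective (Ideal.Quotient.factor (le_of_le_of_isDomain P q q' hqmin hqP hq'P).1)
    (Ideal.Quotient.factor_surjective _))

/-- A prime with a regular local ring is generated there by height many of its elements. -/
theorem exists_gens_of_regular {A : Type u} [CommRing A] (P : Ideal A) [P.IsPrime]
    [IsRegularLocalRing (Localization.AtPrime P)] (h : ℕ) (hh : ringKrullDim (Localization.AtPrime P) = h) :
    ∃ x : Fin h → A, (∀ i, x i ∈ P) ∧ ∀ z ∈ P, ∃ c ∉ P, c * z ∈ Ideal.span (Set.range x) := by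
  let R := Localization.AtPrime P
  have hs : (maximalIdeal R).spanFinrank = h := by
    have := IsRegularLocalRing.spanFinrank_maximalIdeal (R := R)
    rw [hh] at this
    exact_mod_cast this
  obtain ⟨g, hg⟩ : ∃ g : Fin h → R, Ideal.span (Set.range g) = maximalIdeal R := by
    have hfg : (maximalIdeal R).FG := IsNoetherian.noetherian _
    have hfin := Submodule.FG.finite_generators hfg
    have hcard : (Submodule.generators (maximalIdeal R)).ncard = h := by rw [Submodule.FG.generators_ncard hfg, hs]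
    haveI := hfin.to_subtype
    let e : Fin h ≃ (Submodule.generators (maximalIdeal R)) :=
      (Finite.equivFinOfCardEq (by rw [Nat.card_coe_set_eq, hcard])).symm
    refine ⟨fun i => (e i : R), ?_⟩
    rw [show Set.range (fun i => (e i : R)) = (Submodule.generators (maximalIdeal R)) from
      (e.surjective.range_comp _).trans Subtype.range_coe]
    exact Submodule.span_generators (maximalIdeal R)
  choose x s hxs using fun i => IsLocalization.exists_mk'_eq P.primeCompl (g i)
  have hmem : ∀ a : A, algebraMap A R a ∈ maximalIdeal R ↔ a ∈ P := fun a =>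
    (IsLocalization.AtPrime.to_map_mem_maximal_iff R P a)
  have hx : ∀ i, algebraMap A R (x i) = g i * algebraMap A R (s i) := fun i => by
    rw [← hxs i, IsLocalization.mk'_spec]
  refine ⟨x, fun i => ?_, fun z hz => ?_⟩
  · rw [← hmem, hx, ← hg]
    exact Ideal.mul_mem_right _ _ (Ideal.subset_span ⟨i, rfl⟩)
  · have hz' : algebraMap A R z ∈ (Ideal.span (Set.range x)).map (algebraMap A R) := by
      have h1 : algebraMap A R z ∈ Ideal.span (Set.range g) := hg.symm ▸ (hmem z).mpr hz
      refine (Ideal.span_le.mpr ?_) h1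
      rintro _ ⟨i, rfl⟩
      have h2 : algebraMap A R (x i) ∈ (Ideal.span (Set.range x)).map (algebraMap A R) :=
        Ideal.mem_map_of_mem _ (Ideal.subset_span ⟨i, rfl⟩)
      rw [hx] at h2
      exact ((Ideal.unit_mul_mem_iff_mem _ (IsLocalization.map_units R (s i))).mp (mul_comm (g i) _ ▸ h2))
    obtain ⟨c, hc, hcz⟩ := (IsLocalization.algebraMap_mem_map_algebraMap_iff P.primeCompl R _ z).mp hz'
    exact ⟨c, hc, hcz⟩

/-- Padding generators at a prime. -/
theorem exists_genAt_pad {A M : Type*} [CommRing A] [AddCommGroup M] [Module A M] (P : Ideal A) {a n : ℕ}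
    (han : a ≤ n) (s : Fin a → M) (hs : GenAt P s) : ∃ t : Fin n → M, GenAt P t := by
  refine ⟨fun i => if h : (i : ℕ) < a then s ⟨i, h⟩ else 0, fun y => ?_⟩
  obtain ⟨c, hc, hy⟩ := hs y
  refine ⟨c, hc, Submodule.span_mono ?_ hy⟩
  rintro _ ⟨i, rfl⟩
  exact ⟨Fin.castLE han i, by simp⟩

end Groth.Agent.H1CplK
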