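import Groth.Agent.RegLoc6.RegEtale
import Groth.Agent.RegLoc6.Basic
import Mathlib.RingTheory.Unramified.LocalStructure
import Mathlib

/-!
# An unramified point dominating a regular base is étale
-/

set_option autoImplicit false
universe u
open IsLocalRing

namespace Groth.Agent.H1CplK

/-- An unramified prime of an algebra of finite type over a regular domain which lies on a prime
over zero is étale, and that prime dies in the local ring. -/
theorem isEtaleAt_of_dominant {P A : Type u} [CommRing P] [IsDomain P] [IsNoetherianRing P]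
    (hreg : ∀ (p : Ideal P) [p.IsPrime], IsRegularLocalRing (Localization.AtPrime p))
    [CommRing A] [Algebra P A] [Algebra.FiniteType P A]
    (p q : Ideal A) [p.IsPrime] [q.IsPrime] (hqp : q ≤ p) (hq : q.comap (algebraMap P A) = ⊥)
    [Algebra.IsUnramifiedAt P p] :
    Algebra.IsEtaleAt P p ∧ q.map (algebraMap A (Localization.AtPrime p)) = ⊥ := by
  obtain ⟨f, hf, E, φ, hφ⟩ :=
    Algebra.IsUnramifiedAt.exists_hasStandardEtaleSurjectionOn (R := P) p
  haveI : IsNoetherianRing E.Ring := Algebra.FiniteType.isNoetherianRing P E.Ring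
  let Af := Localization.AtPrime p
  have hu : IsUnit (algebraMap A Af f) := IsLocalization.map_units Af (⟨f, hf⟩ : p.primeCompl)
  let ψ : Localization.Away f →ₐ[P] Af :=
    IsLocalization.liftAlgHom (M := Submonoid.powers f) (f := IsScalarTower.toAlgHom P A Af)
      (fun y => by obtain ⟨m, hm⟩ := y.2; rw [← hm, map_pow]; exact hu.pow m)
  have hψ : ∀ a : A, ψ (algebraMap A (Localization.Away f) a) = algebraMap A Af a :=
    fun a => IsLocalization.lift_eq _ a
  let χ : E.Ring →ₐ[P] Af := ψ.comp φ
  have hχ : ∀ a : A, ∃ e, χ e = algebraMap A Af a := fun a => by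
    obtain ⟨e, he⟩ := hφ (algebraMap A (Localization.Away f) a)
    exact ⟨e, by show ψ (φ e) = _; rw [he, hψ]⟩
  let M : Ideal E.Ring := (maximalIdeal Af).comap χ
  haveI : M.IsPrime := Ideal.comap_isPrime _ _
  let L := Localization.AtPrime M
  let Λ : L →ₐ[P] Af := IsLocalization.liftAlgHom (M := M.primeCompl) (f := χ) fun y =>
    not_not.1 fun h => y.2 h
  have hΛ : ∀ e : E.Ring, Λ (algebraMap E.Ring L e) = χ e := fun e => IsLocalization.lift_eq _ e
  have hsurj : Function.Surjective Λ := by
    intro z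
    obtain ⟨a, s, rfl⟩ := IsLocalization.exists_mk'_eq p.primeCompl z
    obtain ⟨e, he⟩ := hχ a
    obtain ⟨t, ht⟩ := hχ s
    have hus : IsUnit (χ t) := by rw [ht]; exact IsLocalization.map_units Af s
    refine ⟨IsLocalization.mk' L e (⟨t, fun h => h hus⟩ : M.primeCompl), ?_⟩
    rw [IsLocalization.eq_mk'_iff_mul_eq, ← he, ← ht, ← hΛ, ← hΛ, ← map_mul,
      IsLocalization.mk'_spec]
  haveI : IsRegularLocalRing L := RegLoc6.regular_of_etale (A := P) M (hreg _)
  haveI : IsDomain L := RegLoc6.isDomain_of_isRegularLocalRing L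
  let qA : Ideal Af := q.map (algebraMap A Af)
  have hd : Disjoint (p.primeCompl : Set A) q := Set.disjoint_left.2 fun x hx hxq => hx (hqp hxq)
  haveI : qA.IsPrime := IsLocalization.isPrime_of_isPrime_disjoint p.primeCompl _ _ ‹_› hd
  have hqA : qA.comap (algebraMap A Af) = q :=
    IsLocalization.comap_map_of_isPrime_disjoint p.primeCompl _ ‹_› hd
  let K : Ideal L := qA.comap Λ
  haveI : K.IsPrime := Ideal.comap_isPrime _ _
  -- both `K` and `⊥` lie over `⊥` in `P`
  have hK0 : K.comap (algebraMap P L) = ⊥ := by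
    rw [← hq, ← hqA, Ideal.comap_comap, ← IsScalarTower.algebraMap_eq P A Af]
    ext x
    show Λ (algebraMap P L x) ∈ qA ↔ algebraMap P Af x ∈ qA
    rw [Λ.commutes]
  have hbot : (⊥ : Ideal L).comap (algebraMap P L) = ⊥ :=
    le_antisymm ((Ideal.comap_mono bot_le).trans hK0.le) bot_le
  have hKN : (⊥ : Ideal L).comap (algebraMap E.Ring L) = K.comap (algebraMap E.Ring L) := by
    refine Algebra.QuasiFinite.eq_of_le_of_under_eq (R := P) _ _ (Ideal.comap_mono bot_le) ?_
    rw [Ideal.under_def, Ideal.under_def, Ideal.comap_comap, Ideal.comap_comap,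
      ← IsScalarTower.algebraMap_eq P E.Ring L, hK0, hbot]
  have hK : K = ⊥ := by
    refine (IsLocalization.map_comap M.primeCompl L K).symm.trans ?_
    rw [Ideal.under_def, ← hKN]
    exact IsLocalization.map_comap M.primeCompl L ⊥
  have hinj : Function.Injective Λ := by
    rw [injective_iff_map_eq_zero]
    intro x hx
    have : x ∈ K := by show Λ x ∈ qA; rw [hx]; exact zero_mem _
    rwa [hK, Ideal.mem_bot] at this
  haveI : Algebra.FormallyEtale E.Ring L := Algebra.FormallyEtale.of_isLocalization M.primeCompl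
  haveI : Algebra.FormallyEtale P L := Algebra.FormallyEtale.comp P E.Ring L
  refine ⟨Algebra.FormallyEtale.of_equiv (AlgEquiv.ofBijective Λ ⟨hinj, hsurj⟩), ?_⟩
  refine eq_bot_iff.mpr fun y hy => ?_
  obtain ⟨x, rfl⟩ := hsurj y
  have : x ∈ K := hy
  rw [hK, Ideal.mem_bot] at this
  rw [this, map_zero]
  exact zero_mem _

end Groth.Agent.H1CplK
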