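import Groth.Agent.CplKaehler4.Rank
import Groth.Agent.CplKaehler4.Basic
import Groth.Agent.AdicLib.Basic
import Mathlib.RingTheory.MvPowerSeries.Expand
import Mathlib

/-!
# Differentials of power series over a field with finite Frobenius
-/

set_option autoImplicit false
universe u
open TensorProduct

namespace Groth.Agent.H1CplK

/-- Generators of a finite ring map. -/
theorem exists_gens_of_finite {R S : Type u} [CommRing R] [CommRing S] (f : R →+* S) (hf : f.Finite) :
    ∃ (N : ℕ) (b : Fin N → S), ∀ c : S, ∃ a : Fin N → R, c = ∑ j, f (a j) * b j := by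
  letI := f.toAlgebra
  haveI : Module.Finite R S := hf
  obtain ⟨N, b, hb⟩ := Module.Finite.exists_fin (R := R) (M := S)
  refine ⟨N, b, fun c => ?_⟩
  obtain ⟨a, ha⟩ := (Submodule.mem_span_range_iff_exists_fun R).mp (hb ▸ (Submodule.mem_top : c ∈ ⊤))
  exact ⟨a, ha.symm⟩

/-- The absolute differentials of a ring spanned by finitely many elements over its `p`th powers are finite. -/
theorem finite_kaehler_of_decomp (p : ℕ) {R : Type u} [CommRing R] [CharP R p] (k : Type*) [CommRing k]
    [Algebra k R] {ι : Type*} [Fintype ι] (v : ι → R)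
    (h : ∀ f : R, ∃ g : ι → R, f = ∑ x, g x ^ p * v x) : Module.Finite R (Ω[R⁄k]) := by
  classical
  refine ⟨⟨Finset.univ.image fun x => KaehlerDifferential.D k R (v x), eq_top_iff.mpr fun ω _ => ?_⟩⟩
  have hω : ω ∈ Submodule.span R (Set.range (KaehlerDifferential.D k R)) := by
    rw [KaehlerDifferential.span_range_derivation]; exact Submodule.mem_top
  refine Submodule.span_le.mpr ?_ hω
  rintro _ ⟨f, rfl⟩
  obtain ⟨g, rfl⟩ := h f
  rw [SetLike.mem_coe, map_sum]
  refine Submodule.sum_mem _ fun x _ => ?_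
  rw [Derivation.leibniz, Derivation.leibniz_pow, ← Nat.cast_smul_eq_nsmul R, CharP.cast_eq_zero, zero_smul,
    smul_zero, add_zero]
  exact Submodule.smul_mem _ _ (Submodule.subset_span (by simp))

set_option maxHeartbeats 800000 in
/-- Power series over a field with finite Frobenius are finitely spanned over their `p`th powers. -/
theorem powerSeries_decomp_ffinite (p : ℕ) [Fact p.Prime] (k : Type u) [Field k] [CharP k p]
    (hk : (frobenius k p).Finite) (r : ℕ) :
    ∃ (ι : Type) (_ : Fintype ι) (v : ι → MvPowerSeries (Fin r) k),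
      ∀ f : MvPowerSeries (Fin r) k, ∃ g : ι → MvPowerSeries (Fin r) k, f = ∑ x, g x ^ p * v x := by
  classical
  haveI : ExpChar k p := ExpChar.prime Fact.out
  have hp : p ≠ 0 := (Fact.out : p.Prime).ne_zero
  have hppos : 0 < p := Nat.pos_of_ne_zero hp
  obtain ⟨N, b, hb⟩ : ∃ (N : ℕ) (b : Fin N → k), ∀ c : k, ∃ a : Fin N → k, c = ∑ j, a j ^ p * b j := by
    obtain ⟨N, b, hb⟩ := exists_gens_of_finite (frobenius k p) hk
    exact ⟨N, b, fun c => by
      obtain ⟨a, ha⟩ := hb c
      exact ⟨a, by simpa [frobenius_def] using ha⟩⟩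
  choose a ha using hb
  let e : (Fin r → Fin p) → (Fin r →₀ ℕ) := fun t => Finsupp.equivFunOnFinite.symm fun s => (t s : ℕ)
  let t₀ : (Fin r →₀ ℕ) → (Fin r → Fin p) := fun m s => ⟨m s % p, Nat.mod_lt _ hppos⟩
  let n₀ : (Fin r →₀ ℕ) → (Fin r →₀ ℕ) := fun m => Finsupp.equivFunOnFinite.symm fun s => m s / p
  have hm : ∀ m, p • n₀ m + e (t₀ m) = m := fun m => Finsupp.ext fun s => by
    simp [n₀, e, t₀, Nat.div_add_mod]
  refine ⟨(Fin r → Fin p) × Fin N, inferInstance, fun x => MvPowerSeries.monomial (e x.1) (b x.2), fun f => ?_⟩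
  let g : (Fin r → Fin p) × Fin N → MvPowerSeries (Fin r) k :=
    fun x n => a (MvPowerSeries.coeff (p • n + e x.1) f) x.2
  refine ⟨g, ?_⟩
  have hg : ∀ x, g x ^ p = MvPowerSeries.map (frobenius k p) (MvPowerSeries.expand p hp (g x)) := fun x =>
    (MvPowerSeries.map_frobenius_expand p hp).symm
  ext m
  rw [map_sum, Fintype.sum_prod_type, Finset.sum_eq_single (t₀ m)]
  · rw [ha (MvPowerSeries.coeff m f)]
    refine Finset.sum_congr rfl fun j _ => ?_
    have hle : e (t₀ m) ≤ m := le_add_self.trans_eq (hm m)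
    have hsub : m - e (t₀ m) = p • n₀ m := tsub_eq_of_eq_add (hm m).symm
    rw [MvPowerSeries.coeff_mul_monomial, if_pos hle, hsub, hg, MvPowerSeries.coeff_map,
      MvPowerSeries.coeff_expand_smul]
    show _ = frobenius k p (a (MvPowerSeries.coeff (p • n₀ m + e (t₀ m)) f) j) * b j
    rw [hm, frobenius_def]
  · intro t _ ht
    refine Finset.sum_eq_zero fun j _ => ?_
    rw [MvPowerSeries.coeff_mul_monomial]
    split_ifs with hle
    · obtain ⟨s, hs⟩ : ∃ s, ¬ p ∣ (m - e t) s := by
        by_contra! hall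
        refine ht (funext fun s => Fin.ext ?_)
        obtain ⟨c, hc⟩ := hall s
        have h1 : e t s ≤ m s := hle s
        have h2 : m s = p * c + (t s : ℕ) := by
          simp only [Finsupp.tsub_apply] at hc
          simp [e] at h1 hc ⊢
          omega
        show (t s : ℕ) = m s % p
        rw [h2, Nat.mul_add_mod, Nat.mod_eq_of_lt (t s).2]
      rw [hg, MvPowerSeries.coeff_map, MvPowerSeries.coeff_expand_of_not_dvd _ _ _ hs, map_zero, zero_mul]
    · rfl
  · exact fun h => absurd (Finset.mem_univ _) h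

/-- The relative differentials of an algebra finite over power series are finite when Frobenius is. -/
theorem finite_kaehler_of_finite (p : ℕ) [Fact p.Prime] {k : Type u} [Field k] [CharP k p]
    (hk : (frobenius k p).Finite) (r : ℕ) (A : Type u) [CommRing A] [Algebra k A]
    [Algebra (MvPowerSeries (Fin r) k) A] [IsScalarTower k (MvPowerSeries (Fin r) k) A]
    [Module.Finite (MvPowerSeries (Fin r) k) A] : Module.Finite A (Ω[A⁄k]) := by
  haveI : CharP (MvPowerSeries (Fin r) k) p :=
    charP_of_injective_ringHom (algebraMap k (MvPowerSeries (Fin r) k)).injective p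
  obtain ⟨ι, _, v, hv⟩ := powerSeries_decomp_ffinite p k hk r
  haveI := finite_kaehler_of_decomp p k v hv
  haveI : Algebra.FiniteType (MvPowerSeries (Fin r) k) A := inferInstance
  refine ⟨Submodule.fg_of_fg_map_of_fg_inf_ker (KaehlerDifferential.map k (MvPowerSeries (Fin r) k) A A) ?_ ?_⟩
  · rw [Submodule.map_top, LinearMap.range_eq_top.mpr (KaehlerDifferential.map_surjective k (MvPowerSeries (Fin r) k) A)]
    exact Module.Finite.fg_top
  · rw [top_inf_eq, ← KaehlerDifferential.range_mapBaseChange, LinearMap.range_eq_map]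
    exact Submodule.FG.map _ Module.Finite.fg_top

end Groth.Agent.H1CplK
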