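import Groth.Agent.H1CplK.FFin
import Groth.Agent.S2477
import Groth.Agent.S2469
import Mathlib

/-!
# Differentials of residue fields of complete algebras over a field with finite Frobenius
-/

set_option autoImplicit false
universe u
open TensorProduct IsLocalRing

namespace Groth.Agent.H1CplK

/-- Exactness bookkeeping for a tower of fields over a base. -/
theorem finrank_kaehler_tower {R : Type*} [CommRing R] (K E : Type u) [Field K] [Field E] [Algebra R K]
    [Algebra R E] [Algebra K E] [IsScalarTower R K E] [Module.Finite K (Ω[K⁄R])] [Module.Finite E (Ω[E⁄K])] :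
    Module.Finite E (Ω[E⁄R]) ∧
    Module.finrank E (Ω[E⁄R]) + Module.finrank E (LinearMap.ker (KaehlerDifferential.mapBaseChange R K E)) =
      Module.finrank K (Ω[K⁄R]) + Module.finrank E (Ω[E⁄K]) := by
  let g := KaehlerDifferential.mapBaseChange R K E
  let h := KaehlerDifferential.map R K E E
  have hh : LinearMap.range h = ⊤ := LinearMap.range_eq_top.mpr (KaehlerDifferential.map_surjective R K E)
  have hgh : LinearMap.range g = LinearMap.ker h := KaehlerDifferential.range_mapBaseChange R K E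
  haveI : Module.Finite E (LinearMap.ker h) := hgh ▸ Module.Finite.range g
  haveI hfin : Module.Finite E (Ω[E⁄R]) := ⟨Submodule.fg_of_fg_map_of_fg_inf_ker h
    (by rw [Submodule.map_top, hh]; exact Module.Finite.fg_top)
    (by rw [top_inf_eq]; exact Module.Finite.iff_fg.mp inferInstance)⟩
  refine ⟨hfin, ?_⟩
  have h1 := LinearMap.finrank_range_add_finrank_ker h
  rw [hh, finrank_top, ← hgh] at h1
  have h2 := LinearMap.finrank_range_add_finrank_ker g
  rw [Module.finrank_baseChange] at h2
  have gen' : ∀ (im ker tot w ω : ℕ), ω + im = w → im + ker = tot → w + ker = tot + ω := fun _ _ _ _ _ _ _ => by omega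
  exact gen' _ _ _ _ _ h1 h2

/-- `Ω` of the fraction field of power series, for finite Frobenius. -/
theorem finrank_kaehler_fraction_powerSeries (p : ℕ) [Fact p.Prime] {k : Type u} [Field k] [CharP k p]
    (hk : (frobenius k p).Finite) (s : ℕ) (L : Type u) [Field L] [Algebra (MvPowerSeries (Fin s) k) L]
    [IsFractionRing (MvPowerSeries (Fin s) k) L] [Algebra k L] [IsScalarTower k (MvPowerSeries (Fin s) k) L] :
    Module.Finite L (Ω[L⁄k]) ∧ Module.finrank L (Ω[L⁄k]) = s := by
  haveI := PSLib.isRegularLocalRing (K := k) (n := s)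
  haveI := PSLib.isAdicComplete (R := k) (n := s)
  haveI hc : IsAdicComplete (maximalIdeal (MvPowerSeries (Fin s) k)) (MvPowerSeries (Fin s) k) := by
    rw [PSLib.maximalIdeal_eq_vars]
    exact PSLib.isAdicComplete
  haveI hΩ : Module.Finite (MvPowerSeries (Fin s) k) (Ω[MvPowerSeries (Fin s) k⁄k]) :=
    finite_kaehler_of_finite p hk s (MvPowerSeries (Fin s) k)
  haveI := AdicLib.isAdicComplete_of_finite (maximalIdeal (MvPowerSeries (Fin s) k)) (Ω[MvPowerSeries (Fin s) k⁄k])
  obtain ⟨-, hfree, hrank⟩ := Groth.Agent.S2477.result k s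
  let e : Ω[MvPowerSeries (Fin s) k⁄k] ≃ₗ[MvPowerSeries (Fin s) k]
      AdicCompletion (maximalIdeal (MvPowerSeries (Fin s) k)) (Ω[MvPowerSeries (Fin s) k⁄k]) :=
    AdicCompletion.ofLinearEquiv _ _
  haveI : Module.Free (MvPowerSeries (Fin s) k) (Ω[MvPowerSeries (Fin s) k⁄k]) := Module.Free.of_equiv e.symm
  haveI : Algebra.FormallyEtale (MvPowerSeries (Fin s) k) L :=
    Algebra.FormallyEtale.of_isLocalization (nonZeroDivisors (MvPowerSeries (Fin s) k))
  let e' := KaehlerDifferential.tensorKaehlerEquivOfFormallyEtale k (MvPowerSeries (Fin s) k) L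
  refine ⟨Module.Finite.equiv e', ?_⟩
  rw [← e'.finrank_eq, Module.finrank_baseChange, e.finrank_eq, hrank]

set_option maxHeartbeats 1000000 in
/-- The residue field of a prime with `dim = s` has `dim Ω_{κ/k} ≤ s + dim Υ_{κ/k}`. -/
theorem finrank_kaehler_residue_le (p : ℕ) [Fact p.Prime] {k : Type u} [Field k] [CharP k p]
    (hk : (frobenius k p).Finite) (s : ℕ) (κ : Type u) [Field κ] [Algebra k κ]
    (L : Type u) [Field L] [Algebra (MvPowerSeries (Fin s) k) L]
    [IsFractionRing (MvPowerSeries (Fin s) k) L] [Algebra k L] [IsScalarTower k (MvPowerSeries (Fin s) k) L]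
    [Algebra L κ] [IsScalarTower k L κ] [Module.Finite L κ] :
    Module.Finite κ (Ω[κ⁄k]) ∧
      Module.finrank κ (Ω[κ⁄k]) ≤ s + Module.finrank κ (EGA41.imperfection ℤ k κ) := by
  haveI hΩk : Module.Finite k (Ω[k⁄ℤ]) := by
    obtain ⟨N, b, hb⟩ := exists_gens_of_finite (frobenius k p) hk
    exact finite_kaehler_of_decomp p ℤ b fun c => by
      obtain ⟨a, ha⟩ := hb c
      exact ⟨a, by simpa [frobenius_def] using ha⟩
  obtain ⟨hLk, hLs⟩ := finrank_kaehler_fraction_powerSeries p hk s L
  haveI := hLk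
  obtain ⟨hL, hLeq⟩ := finrank_kaehler_tower (R := ℤ) k L
  haveI := hL
  haveI : Algebra.EssFiniteType L κ := inferInstance
  obtain ⟨hκL, -, hbal⟩ := Groth.Agent.S2469.result (K := L) (L := κ)
  haveI := hκL
  obtain ⟨hκ, hκeq⟩ := finrank_kaehler_tower (R := ℤ) L κ
  haveI := hκ
  haveI hκk : Module.Finite κ (Ω[κ⁄k]) :=
    Module.Finite.of_surjective (KaehlerDifferential.map ℤ k κ κ) (KaehlerDifferential.map_surjective ℤ k κ)
  obtain ⟨-, hkeq⟩ := finrank_kaehler_tower (R := ℤ) k κ
  refine ⟨hκk, ?_⟩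
  haveI : Algebra.IsAlgebraic L κ := Algebra.IsAlgebraic.of_finite L κ
  have htr : Cardinal.toNat (Algebra.trdeg L κ) = 0 := by
    rw [trdeg_eq_zero]
    exact map_zero _
  rw [htr] at hbal
  have gen : ∀ (w u ω l v d y z c : ℕ), (ω : ℤ) - u = (0 : ℕ) → w + u = l + ω → l + v = d + y →
      y = s → w + c = d + z → z ≤ s + c := fun _ _ _ _ _ _ _ _ _ h1 h2 h3 h4 h5 => by omega
  exact gen _ _ _ _ _ _ _ _ _ hbal hκeq hLeq hLs hkeq

end Groth.Agent.H1CplK
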