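import Groth.Agent.CplKaehler4.Basic
import Mathlib

/-!
# A completion with projective reductions is free
-/

set_option autoImplicit false
universe u
open IsLocalRing TensorProduct

namespace Groth.Agent.H1CplK

variable {R : Type u} [CommRing R] [IsLocalRing R] {M : Type u} [AddCommGroup M] [Module R M]
  {r : ℕ} (v : Fin r → M)

theorem span_sup_pow (hspan : Submodule.span R (Set.range v) ⊔ maximalIdeal R • ⊤ = ⊤) :
    ∀ n : ℕ, Submodule.span R (Set.range v) ⊔ maximalIdeal R ^ n • ⊤ = ⊤ := by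
  intro n
  induction n with
  | zero => simp
  | succ n ih =>
    refine eq_top_iff.mpr (le_of_eq_of_le ih.symm (sup_le le_sup_left ?_))
    calc maximalIdeal R ^ n • (⊤ : Submodule R M)
        = maximalIdeal R ^ n • (Submodule.span R (Set.range v) ⊔ maximalIdeal R • ⊤) := by rw [hspan]
      _ = maximalIdeal R ^ n • Submodule.span R (Set.range v) ⊔ maximalIdeal R ^ (n + 1) • ⊤ := by
          rw [Submodule.smul_sup, ← Submodule.mul_smul, ← pow_succ]
      _ ≤ _ := sup_le_sup Submodule.smul_le_right le_rfl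

/-- Projectivity of the reduction modulo `𝔪 ^ n` makes a minimal generating family independent
modulo `𝔪 ^ n`. -/
theorem mem_pow_of_projective (hspan : Submodule.span R (Set.range v) ⊔ maximalIdeal R • ⊤ = ⊤)
    (hind : ∀ c : Fin r → R, ∑ i, c i • v i ∈ (maximalIdeal R • ⊤ : Submodule R M) → ∀ i, c i ∈ maximalIdeal R)
    (n : ℕ) (hn : n ≠ 0)
    (hproj : Module.Projective (R ⧸ maximalIdeal R ^ n) ((R ⧸ maximalIdeal R ^ n) ⊗[R] M))
    (c : Fin r → R) (hc : ∑ i, c i • v i ∈ (maximalIdeal R ^ n • ⊤ : Submodule R M)) :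
    ∀ i, c i ∈ maximalIdeal R ^ n := by
  set I := maximalIdeal R ^ n with hI
  let f : (Fin r → R ⧸ I) →ₗ[R ⧸ I] (R ⧸ I) ⊗[R] M :=
    Fintype.linearCombination (R ⧸ I) fun i => (1 : R ⧸ I) ⊗ₜ[R] v i
  have hf : ∀ d : Fin r → R, f (fun i => Ideal.Quotient.mk I (d i)) = (1 : R ⧸ I) ⊗ₜ[R] (∑ i, d i • v i) := by
    intro d
    rw [Fintype.linearCombination_apply, tmul_sum]
    refine Finset.sum_congr rfl fun i _ => ?_
    rw [tmul_smul, ← Ideal.Quotient.algebraMap_eq, algebraMap_smul]
  have hker : ∀ m : M, m ∈ (I • ⊤ : Submodule R M) → (1 : R ⧸ I) ⊗ₜ[R] m = 0 := by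
    intro m hm
    refine Submodule.smul_induction_on hm (fun a ha x _ => ?_) fun x y hx hy => by
      rw [tmul_add, hx, hy, add_zero]
    rw [tmul_smul, smul_tmul', Algebra.smul_def, mul_one, Ideal.Quotient.algebraMap_eq,
      Ideal.Quotient.eq_zero_iff_mem.mpr ha, zero_tmul]
  have hsurj : Function.Surjective f := by
    intro x
    obtain ⟨m, rfl⟩ : ∃ m : M, (1 : R ⧸ I) ⊗ₜ[R] m = x :=
      TensorProduct.mk_surjective R M (R ⧸ I) Ideal.Quotient.mk_surjective x
    have hm : m ∈ Submodule.span R (Set.range v) ⊔ I • ⊤ := by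
      rw [hI, span_sup_pow v hspan n]; exact Submodule.mem_top
    obtain ⟨a, ha, b, hb, rfl⟩ := Submodule.mem_sup.mp hm
    obtain ⟨d, rfl⟩ := (Submodule.mem_span_range_iff_exists_fun R).mp ha
    exact ⟨fun i => Ideal.Quotient.mk I (d i), by rw [hf, tmul_add, hker b hb, add_zero]⟩
  obtain ⟨s, hs⟩ := Module.projective_lifting_property f LinearMap.id hsurj
  let π : (Fin r → R ⧸ I) →ₗ[R ⧸ I] (Fin r → R ⧸ I) := LinearMap.id - s ∘ₗ f
  let J : Ideal (R ⧸ I) := (maximalIdeal R).map (Ideal.Quotient.mk I)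
  have hπf : ∀ x, f (π x) = 0 := fun x => by
    show f (x - s (f x)) = 0
    rw [map_sub, show f (s (f x)) = f x from DFunLike.congr_fun hs (f x), sub_self]
  -- the kernel is contained in the first layer
  have h1 : ∀ x, f x = 0 → ∀ i, x i ∈ J := by
    intro x hx i
    choose d hd using fun i => Ideal.Quotient.mk_surjective (x i)
    rw [show x = fun i => Ideal.Quotient.mk I (d i) from funext fun i => (hd i).symm, hf] at hx
    have hle : I ≤ maximalIdeal R := hI ▸ Ideal.pow_le_self hn
    have hz := congrArg (LinearMap.rTensor M (Submodule.factor hle : (R ⧸ I) →ₗ[R] R ⧸ maximalIdeal R)) hx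
    rw [map_zero, LinearMap.rTensor_tmul] at hz
    have hz' := congrArg (TensorProduct.quotTensorEquivQuotSMul M (maximalIdeal R)) hz
    rw [map_zero] at hz'
    have hm : ∑ i, d i • v i ∈ (maximalIdeal R • ⊤ : Submodule R M) := by
      refine (Submodule.Quotient.mk_eq_zero _).mp ?_
      refine Eq.trans ?_ hz'
      exact (TensorProduct.quotTensorEquivQuotSMul_mk_tmul (maximalIdeal R) 1 _).trans (by rw [one_smul]) |>.symm
    exact hd i ▸ Ideal.mem_map_of_mem _ (hind d hm i)
  -- hence in every layer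
  have hj : ∀ (j : ℕ) (x), f x = 0 → ∀ i, x i ∈ J ^ j := by
    intro j
    induction j with
    | zero => intro x _ i; simp
    | succ j ih =>
      intro x hx i
      have hπx : π x = x := by
        show x - s (f x) = x
        rw [hx, map_zero, sub_zero]
      rw [← hπx, pi_eq_sum_univ x, map_sum, Finset.sum_apply]
      refine Ideal.sum_mem _ fun k _ => ?_
      rw [map_smul, Pi.smul_apply, smul_eq_mul, pow_succ]
      exact Ideal.mul_mem_mul (ih x hx k) (h1 _ (hπf _) i)
  intro i
  have h0 : f (fun i => Ideal.Quotient.mk I (c i)) = 0 := by rw [hf, hker _ hc]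
  have := hj n _ h0 i
  rw [← Ideal.map_pow, ← hI, Ideal.map_quotient_self, Ideal.mem_bot] at this
  exact Ideal.Quotient.eq_zero_iff_mem.mp this

variable [IsNoetherianRing R] [IsAdicComplete (maximalIdeal R) R]

/-- A completed module with projective reductions is free on any minimal generating family. -/
theorem exists_basis (hspan : Submodule.span R (Set.range v) ⊔ maximalIdeal R • ⊤ = ⊤)
    (hind : ∀ c : Fin r → R, ∑ i, c i • v i ∈ (maximalIdeal R • ⊤ : Submodule R M) → ∀ i, c i ∈ maximalIdeal R)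
    (hproj : ∀ n : ℕ, n ≠ 0 → Module.Projective (R ⧸ maximalIdeal R ^ n) ((R ⧸ maximalIdeal R ^ n) ⊗[R] M)) :
    Nonempty (Module.Basis (Fin r) R (AdicCompletion (maximalIdeal R) M)) := by
  have hsp := CplKaehler4.span_eq_top (maximalIdeal R) v hspan
  refine ⟨Module.Basis.mk (v := fun i => AdicCompletion.of (maximalIdeal R) M (v i)) ?_ hsp.ge⟩
  rw [Fintype.linearIndependent_iff]
  intro c hc i
  have hker : ∑ i, c i • v i ∈ LinearMap.ker (AdicCompletion.of (maximalIdeal R) M) := by
    rw [LinearMap.mem_ker, map_sum]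
    simpa using hc
  have hall : ∀ n : ℕ, c i ∈ maximalIdeal R ^ n := by
    intro n
    rcases eq_or_ne n 0 with rfl | hn
    · simp
    · refine mem_pow_of_projective v hspan hind n hn (hproj n hn) c ?_ i
      have := congrArg (AdicCompletion.eval (maximalIdeal R) M n) (LinearMap.mem_ker.mp hker)
      rw [map_zero, AdicCompletion.eval_of] at this
      exact (Submodule.Quotient.mk_eq_zero _).mp this
  have h := Ideal.iInf_pow_eq_bot_of_isLocalRing (maximalIdeal R) (maximalIdeal.isMaximal R).ne_top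
  exact (Submodule.mem_bot R).mp (h ▸ (Submodule.mem_iInf _).mpr hall)

end Groth.Agent.H1CplK
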