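import Groth.Agent.H1CplK.DimSum
import Groth.Agent.CplKaehler4.Domain
import Groth.Agent.CplKaehler4.Gen
import Groth.Agent.S4557
import Mathlib

/-!
# Generators of the completed differentials at a regular prime, characteristic zero
-/

set_option autoImplicit false
universe u
open IsLocalRing TensorProduct

namespace Groth.Agent.H1CplK

open CplKaehler4

/-- In characteristic zero the separability hypothesis of the rank computation is automatic. -/
theorem exists_separable_root {k : Type u} [Field k] [CharZero k] (s : ℕ) (B : Type u) [CommRing B] [IsDomain B]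
    [Algebra (MvPowerSeries (Fin s) k) B] [Module.Finite (MvPowerSeries (Fin s) k) B]
    (hinj : Function.Injective (algebraMap (MvPowerSeries (Fin s) k) B)) (a : B) :
    ∃ Q : Polynomial (MvPowerSeries (Fin s) k), Polynomial.aeval a Q = 0 ∧
      (Q.map (algebraMap (MvPowerSeries (Fin s) k) (FractionRing (MvPowerSeries (Fin s) k)))).Separable := by
  haveI : IsDomain (MvPowerSeries (Fin s) k) := hinj.isDomain
  haveI := PSLib.isRegularLocalRing (K := k) (n := s)
  haveI : IsIntegrallyClosed (MvPowerSeries (Fin s) k) :=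
    RegLoc6.isIntegrallyClosed_of_isRegularLocalRing (MvPowerSeries (Fin s) k)
  haveI : CharZero (MvPowerSeries (Fin s) k) := charZero_of_injective_algebraMap (algebraMap k _).injective
  haveI : CharZero (FractionRing (MvPowerSeries (Fin s) k)) :=
    charZero_of_injective_algebraMap (IsFractionRing.injective (MvPowerSeries (Fin s) k) _)
  haveI : FaithfulSMul (MvPowerSeries (Fin s) k) B := (faithfulSMul_iff_algebraMap_injective _ _).mpr hinj
  have hint : IsIntegral (MvPowerSeries (Fin s) k) a := Algebra.IsIntegral.isIntegral a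
  refine ⟨minpoly (MvPowerSeries (Fin s) k) a, minpoly.aeval _ _, Irreducible.separable ?_⟩
  exact ((minpoly.monic hint).irreducible_iff_irreducible_map_fraction_map
    (K := FractionRing (MvPowerSeries (Fin s) k))).mp (minpoly.irreducible hint)

variable (k A : Type u) [Field k] [CommRing A] [IsLocalRing A] [IsNoetherianRing A] [Algebra k A]
  [IsAdicComplete (maximalIdeal A) A] [Module.Finite k (ResidueField A)]

set_option maxHeartbeats 2000000 in
/-- Generators at a regular prime in characteristic zero. -/
theorem exists_genAt_charZero [CharZero k] (P q : Ideal A) [P.IsPrime]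
    [IsRegularLocalRing (Localization.AtPrime P)] [IsDomain (Localization.AtPrime P)]
    (hq : q ∈ minimalPrimes A) (hqP : q ≤ P) (n : ℕ) (hn : ringKrullDim (A ⧸ q) = n) :
    ∃ t : Fin n → AdicCompletion (maximalIdeal A) (Ω[A⁄k]), GenAt P t := by
  classical
  haveI := CplKaehler4.finite_completion k A
  let B := A ⧸ P
  haveI : IsLocalRing B := .of_surjective' (Ideal.Quotient.mk P) Ideal.Quotient.mk_surjective
  haveI := isAdicComplete_quot P
  haveI : IsLocalHom (Ideal.Quotient.mk P) := .of_surjective _ Ideal.Quotient.mk_surjective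
  haveI : Module.Finite k (ResidueField B) := by
    let g : ResidueField A →ₐ[k] ResidueField B :=
      { ResidueField.map (Ideal.Quotient.mk P) with commutes' := fun c => rfl }
    refine Module.Finite.of_surjective g.toLinearMap fun z => ?_
    obtain ⟨b, rfl⟩ := residue_surjective z
    obtain ⟨a, rfl⟩ := Ideal.Quotient.mk_surjective b
    exact ⟨residue A a, rfl⟩
  obtain ⟨s, y, hy, hs, hyrad⟩ := CohenLib.exists_fin_sop B
  obtain ⟨φ, -, hφfin, -⟩ := exists_algHom_finite k y hy hyrad
  haveI : IsDomain (MvPowerSeries (Fin s) k) := NoZeroDivisors.to_isDomain _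
  have hφinj : Function.Injective φ.toRingHom :=
    CohenLib.injective_of_finite φ.toRingHom hφfin hs (PSLib.ringKrullDim_eq k s).le
  letI : Algebra (MvPowerSeries (Fin s) k) B := φ.toRingHom.toAlgebra
  haveI : IsScalarTower k (MvPowerSeries (Fin s) k) B := IsScalarTower.of_algebraMap_eq fun c => (φ.commutes c).symm
  haveI : Module.Finite (MvPowerSeries (Fin s) k) B := hφfin
  have hrk := Groth.Agent.S4557.result k s B hφinj (exists_separable_root s B hφinj)
  haveI := CplKaehler4.finite_completion k B
  -- generators of the differentials of `B` at the generic point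
  let ε : FractionRing B ≃ₐ[B] (⊥ : Ideal B).ResidueField := by
    haveI : IsFractionRing B (⊥ : Ideal B).ResidueField := by
      refine IsFractionRing.of_field B (⊥ : Ideal B).ResidueField fun z => ?_
      obtain ⟨a, b, -, rfl⟩ := IsFractionRing.div_surjective (A := B ⧸ (⊥ : Ideal B)) z
      obtain ⟨a, rfl⟩ := Ideal.Quotient.mk_surjective a
      obtain ⟨b, rfl⟩ := Ideal.Quotient.mk_surjective b
      exact ⟨a, b, rfl⟩
    exact FractionRing.algEquiv B (⊥ : Ideal B).ResidueField
  have hrk' : Module.finrank (⊥ : Ideal B).ResidueField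
      ((⊥ : Ideal B).ResidueField ⊗[B] AdicCompletion (maximalIdeal B) (Ω[B⁄k])) = s := by
    letI : Algebra (FractionRing B) (⊥ : Ideal B).ResidueField := ε.toAlgHom.toRingHom.toAlgebra
    haveI : IsScalarTower B (FractionRing B) (⊥ : Ideal B).ResidueField :=
      IsScalarTower.of_algebraMap_eq fun b => (ε.commutes b).symm
    rw [← (TensorProduct.AlgebraTensorModule.cancelBaseChange B (FractionRing B) (⊥ : Ideal B).ResidueField
      (⊥ : Ideal B).ResidueField (AdicCompletion (maximalIdeal B) (Ω[B⁄k]))).finrank_eq, Module.finrank_baseChange]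
    exact hrk
  obtain ⟨t, ht⟩ := exists_genAt (⊥ : Ideal B) (M := AdicCompletion (maximalIdeal B) (Ω[B⁄k]))
  obtain ⟨t₀, ht₀⟩ := exists_genAt_pad (⊥ : Ideal B) hrk'.le t ht
  -- the quotient receiving a derivation of `B`
  let M := AdicCompletion (maximalIdeal A) (Ω[A⁄k])
  let d : A → M := fun a => AdicCompletion.of (maximalIdeal A) (Ω[A⁄k]) (KaehlerDifferential.D k A a)
  let S : Submodule A M := P • ⊤ ⊔ Submodule.span A (d '' P)
  let N := M ⧸ S
  have hkill : ∀ (a : A) (v : N), a ∈ P → a • v = 0 := by
    intro a v ha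
    obtain ⟨v, rfl⟩ := Submodule.Quotient.mk_surjective S v
    rw [← Submodule.Quotient.mk_smul, Submodule.Quotient.mk_eq_zero]
    exact Submodule.mem_sup_left (Submodule.smul_mem_smul ha Submodule.mem_top)
  letI : Module B N := Module.IsTorsionBySet.module (fun v a => hkill a v a.2)
  haveI : IsScalarTower A B N := Module.IsTorsionBySet.isScalarTower (fun v a => hkill a v a.2)
  haveI : IsScalarTower k B N := Module.IsTorsionBySet.isScalarTower (fun v a => hkill a v a.2)
  haveI : Module.Finite B N := Module.Finite.of_restrictScalars_finite A B N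
  let D₀ : Derivation k A N :=
    ((AdicCompletion.of (maximalIdeal A) (Ω[A⁄k])).compDer (KaehlerDifferential.D k A) |> S.mkQ.compDer)
  have hD₀P : ∀ a ∈ P, D₀ a = 0 := fun a ha =>
    (Submodule.Quotient.mk_eq_zero _).mpr (Submodule.mem_sup_right (Submodule.subset_span ⟨a, ha, rfl⟩))
  let Dl : B →ₗ[k] N := (P.restrictScalars k).liftQ D₀.toLinearMap (fun a ha => hD₀P a ha)
  have hDl : ∀ a : A, Dl (Ideal.Quotient.mk P a) = D₀ a := fun a => rfl
  let DB : Derivation k B N :=
    { toLinearMap := Dl
      map_one_eq_zero' := by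
        show Dl 1 = 0
        rw [← map_one (Ideal.Quotient.mk P), hDl, D₀.map_one_eq_zero]
      leibniz' := fun u v => by
        obtain ⟨u, rfl⟩ := Ideal.Quotient.mk_surjective u
        obtain ⟨v, rfl⟩ := Ideal.Quotient.mk_surjective v
        show Dl _ = _ • Dl _ + _ • Dl _
        rw [← map_mul, hDl, hDl, hDl, Derivation.leibniz]
        rfl }
  obtain ⟨Φ, hΦ⟩ := exists_lift k B DB
  have hspanN : ∀ v : N, v ∈ LinearMap.range Φ := by
    intro v
    obtain ⟨v, rfl⟩ := Submodule.Quotient.mk_surjective S v
    have hv : v ∈ Submodule.span A (Set.range d) := by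
      rw [show Set.range d = Set.range (fun a : A => AdicCompletion.of (maximalIdeal A) (Ω[A⁄k])
        (KaehlerDifferential.D k A a)) from rfl, CplKaehler4.span_d k A]
      exact Submodule.mem_top
    induction hv using Submodule.span_induction with
    | mem w hw =>
      obtain ⟨a, rfl⟩ := hw
      exact ⟨AdicCompletion.of _ _ (KaehlerDifferential.D k B (Ideal.Quotient.mk P a)), (hΦ _).trans (hDl a)⟩
    | zero => exact ⟨0, map_zero Φ⟩
    | add w z _ _ hw hz => exact Submodule.Quotient.mk_add S ▸ add_mem hw hz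
    | smul a w _ hw =>
      rw [Submodule.Quotient.mk_smul, ← algebraMap_smul B a]
      exact Submodule.smul_mem _ _ hw
  -- the generators
  obtain ⟨h, -, -, hh, -⟩ := CohenLib.exists_fin_sop (Localization.AtPrime P)
  obtain ⟨x, hxP, hxgen⟩ := exists_gens_of_regular P h hh
  have hsum : h + s ≤ n := by
    have h1 := height_add_le_of_isDomain P q hq hqP
    have h2 : ((P.height : ℕ∞) : WithBot ℕ∞) = (h : WithBot ℕ∞) := by
      rw [← hh, IsLocalization.AtPrime.ringKrullDim_eq_height P]
    rw [h2, hs, hn] at h1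
    exact_mod_cast h1
  choose w hw using fun i => Submodule.Quotient.mk_surjective S (Φ (t₀ i))
  let g : Fin h ⊕ Fin s → M := Sum.elim (fun i => d (x i)) w
  let g' : Fin (h + s) → M := g ∘ finSumFinEquiv.symm
  refine exists_genAt_pad P hsum g' (genAt_of_fibre P ?_)
  rw [show Set.range (fun i => (1 : P.ResidueField) ⊗ₜ[A] g' i) = Set.range (fun i => (1 : P.ResidueField) ⊗ₜ[A] g i) from
    finSumFinEquiv.symm.surjective.range_comp (fun i => (1 : P.ResidueField) ⊗ₜ[A] g i)]
  set U := Submodule.span P.ResidueField (Set.range fun i => (1 : P.ResidueField) ⊗ₜ[A] g i) with hU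
  -- dividing out a unit at `P`
  have hdiv : ∀ (c : A) (v : M), c ∉ P → (1 : P.ResidueField) ⊗ₜ[A] (c • v) ∈ U → (1 : P.ResidueField) ⊗ₜ[A] v ∈ U := by
    intro c v hc hcv
    rw [tmul_smul, ← algebraMap_smul P.ResidueField c] at hcv
    exact (Submodule.smul_mem_iff _ (by rwa [Ne, Ideal.algebraMap_residueField_eq_zero])).mp hcv
  have hzero : ∀ (a : A) (v : M), a ∈ P → (1 : P.ResidueField) ⊗ₜ[A] (a • v) = 0 := fun a v ha => by
    rw [tmul_smul, ← algebraMap_smul P.ResidueField a, Ideal.algebraMap_residueField_eq_zero.mpr ha, zero_smul]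
  have hdP : ∀ z ∈ P, (1 : P.ResidueField) ⊗ₜ[A] d z ∈ U := by
    intro z hz
    obtain ⟨c, hc, hcz⟩ := hxgen z hz
    refine hdiv c _ hc ?_
    obtain ⟨a, ha⟩ := (Submodule.mem_span_range_iff_exists_fun A).mp hcz
    have hl : ∀ u v : A, d (u * v) = u • d v + v • d u := fun u v => by
      simp only [d, Derivation.leibniz, map_add, map_smul]
    have h1 : c • d z = d (c * z) - z • d c := by rw [hl, add_sub_cancel_right]
    rw [h1, tmul_sub, hzero z _ hz, sub_zero, ← ha]
    have h2 : d (∑ i, a i • x i) = ∑ i, (a i • d (x i) + x i • d (a i)) := by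
      rw [show d (∑ i, a i • x i) = ∑ i, d (a i • x i) from by simp only [d, map_sum]]
      exact Finset.sum_congr rfl fun i _ => hl (a i) (x i)
    rw [h2, tmul_sum]
    refine Submodule.sum_mem _ fun i _ => ?_
    rw [tmul_add, hzero _ _ (hxP i), add_zero, tmul_smul, ← algebraMap_smul P.ResidueField (a i)]
    exact Submodule.smul_mem _ _ (Submodule.subset_span ⟨Sum.inl i, rfl⟩)
  have hS : ∀ v ∈ S, (1 : P.ResidueField) ⊗ₜ[A] v ∈ U := by
    intro v hv
    obtain ⟨v₁, hv₁, v₂, hv₂, rfl⟩ := Submodule.mem_sup.mp hv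
    rw [tmul_add]
    refine add_mem ?_ ?_
    · refine Submodule.smul_induction_on hv₁ (fun a ha b _ => by rw [hzero a b ha]; exact zero_mem _)
        fun a b ha hb => by rw [tmul_add]; exact add_mem ha hb
    · clear hv
      induction hv₂ using Submodule.span_induction with
      | mem b hb => obtain ⟨z, hz, rfl⟩ := hb; exact hdP z hz
      | zero => rw [tmul_zero]; exact zero_mem _
      | add a b _ _ ha hb => rw [tmul_add]; exact add_mem ha hb
      | smul a b _ hb =>
        rw [tmul_smul, ← algebraMap_smul P.ResidueField a]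
        exact Submodule.smul_mem _ _ hb
  refine eq_top_iff.mpr fun ξ hξ => ?_
  clear hξ
  induction ξ with
  | zero => exact zero_mem _
  | add a b ha hb => exact add_mem ha hb
  | tmul r v =>
    rw [← mul_one r, ← smul_eq_mul, ← TensorProduct.smul_tmul']
    refine Submodule.smul_mem _ _ ?_
    obtain ⟨ω, hω⟩ := hspanN (Submodule.Quotient.mk v)
    obtain ⟨cB, hcB, hcω⟩ := ht₀ ω
    obtain ⟨c, rfl⟩ := Ideal.Quotient.mk_surjective cB
    have hc : c ∉ P := fun h => hcB (by rw [Ideal.Quotient.eq_zero_iff_mem.mpr h]; exact zero_mem _)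
    obtain ⟨aB, haB⟩ := (Submodule.mem_span_range_iff_exists_fun B).mp hcω
    choose a ha using fun i => Ideal.Quotient.mk_surjective (aB i)
    refine hdiv c v hc ?_
    have hmem : c • v - ∑ i, a i • w i ∈ S := by
      rw [← Submodule.Quotient.mk_eq_zero, Submodule.Quotient.mk_sub, Submodule.Quotient.mk_smul, ← hω]
      have h1 := congrArg Φ haB
      rw [map_sum, map_smul] at h1
      rw [sub_eq_zero, ← algebraMap_smul B c, Ideal.Quotient.algebraMap_eq, ← h1]
      simp only [← Submodule.mkQ_apply, map_sum, map_smul]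
      refine Finset.sum_congr rfl fun i _ => ?_
      rw [Submodule.mkQ_apply, hw, ← ha i, ← Ideal.Quotient.algebraMap_eq, algebraMap_smul]
    have h2 := hS _ hmem
    rw [tmul_sub, tmul_sum] at h2
    have h3 : ∑ i, (1 : P.ResidueField) ⊗ₜ[A] (a i • w i) ∈ U := Submodule.sum_mem _ fun i _ => by
      rw [tmul_smul, ← algebraMap_smul P.ResidueField (a i)]
      exact Submodule.smul_mem _ _ (Submodule.subset_span ⟨Sum.inr i, rfl⟩)
    simpa using add_mem h2 h3

end Groth.Agent.H1CplK
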