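import Groth.Agent.H1CplK.Rank
import Groth.Agent.H1CplK.FieldRank
import Groth.Agent.H1CplK.DimSum
import Groth.Agent.CplKaehler4.Domain
import Groth.Agent.CplKaehler4.Gen
import Groth.Agent.RegFS6.Field
import Groth.Agent.S4571
import Mathlib

/-!
# Generators of the completed differentials at a geometrically regular prime, positive characteristic
-/

set_option autoImplicit false
universe u
open IsLocalRing TensorProduct

namespace Groth.Agent.H1CplK

open CplKaehler4

set_option maxHeartbeats 1000000 in
/-- The fibre of the differentials at a geometrically regular prime, for finite Frobenius. -/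
theorem finrank_fibre_le_charP (p : ℕ) [Fact p.Prime] {k : Type u} [Field k] [CharP k p]
    (hk : (frobenius k p).Finite) {A : Type u} [CommRing A] [IsNoetherianRing A] [Algebra k A]
    (P : Ideal A) [P.IsPrime] (hP : CAlg.IsGeometricallyRegular k (Localization.AtPrime P))
    (h : ℕ) (hh : ringKrullDim (Localization.AtPrime P) = h) [IsRegularLocalRing (Localization.AtPrime P)]
    (s : ℕ) [Algebra (MvPowerSeries (Fin s) k) (A ⧸ P)] [IsScalarTower k (MvPowerSeries (Fin s) k) (A ⧸ P)]
    [Module.Finite (MvPowerSeries (Fin s) k) (A ⧸ P)]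
    (hinj : Function.Injective (algebraMap (MvPowerSeries (Fin s) k) (A ⧸ P))) :
    Module.finrank P.ResidueField (P.ResidueField ⊗[A] Ω[A⁄k]) ≤ h + s := by
  haveI : IsDomain (MvPowerSeries (Fin s) k) := hinj.isDomain
  let L := FractionRing (MvPowerSeries (Fin s) k)
  letI : Algebra (MvPowerSeries (Fin s) k) P.ResidueField :=
    ((algebraMap (A ⧸ P) P.ResidueField).comp (algebraMap (MvPowerSeries (Fin s) k) (A ⧸ P))).toAlgebra
  haveI : IsScalarTower (MvPowerSeries (Fin s) k) (A ⧸ P) P.ResidueField := IsScalarTower.of_algebraMap_eq fun _ => rfl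
  haveI : IsScalarTower k (MvPowerSeries (Fin s) k) P.ResidueField := IsScalarTower.of_algebraMap_eq fun c => by
    rw [IsScalarTower.algebraMap_apply (MvPowerSeries (Fin s) k) (A ⧸ P) P.ResidueField,
      ← IsScalarTower.algebraMap_apply k (MvPowerSeries (Fin s) k) (A ⧸ P),
      ← IsScalarTower.algebraMap_apply k (A ⧸ P) P.ResidueField]
  have hinj' : Function.Injective (algebraMap (MvPowerSeries (Fin s) k) P.ResidueField) := by
    rw [IsScalarTower.algebraMap_eq (MvPowerSeries (Fin s) k) (A ⧸ P) P.ResidueField]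
    exact (IsFractionRing.injective (A ⧸ P) P.ResidueField).comp hinj
  haveI : FaithfulSMul (MvPowerSeries (Fin s) k) P.ResidueField :=
    (faithfulSMul_iff_algebraMap_injective _ _).mpr hinj'
  letI : Algebra L P.ResidueField := FractionRing.liftAlgebra (MvPowerSeries (Fin s) k) P.ResidueField
  haveI : IsScalarTower (MvPowerSeries (Fin s) k) L P.ResidueField := FractionRing.isScalarTower_liftAlgebra _ _
  haveI : IsScalarTower k L P.ResidueField := IsScalarTower.of_algebraMap_eq fun c => by
    rw [IsScalarTower.algebraMap_apply k (MvPowerSeries (Fin s) k) L,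
      ← IsScalarTower.algebraMap_apply (MvPowerSeries (Fin s) k) L P.ResidueField,
      ← IsScalarTower.algebraMap_apply k (MvPowerSeries (Fin s) k) P.ResidueField]
  haveI : Module.Finite L P.ResidueField :=
    CplKaehler4.finite_fractionField (MvPowerSeries (Fin s) k) (A ⧸ P) L P.ResidueField
  obtain ⟨hκfin, hκ⟩ := finrank_kaehler_residue_le p hk s P.ResidueField L
  haveI : Module.Finite (ResidueField (Localization.AtPrime P)) (Ω[ResidueField (Localization.AtPrime P)⁄k]) := hκfin
  obtain ⟨-, hi⟩ := Groth.Agent.S4571.result.mp (RegFS6.fs_iff_geometricallyRegular.mpr hP)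
  obtain ⟨hkfin, hkle⟩ := finrank_ker_mapBaseChange_le (A := Localization.AtPrime P)
  haveI := hkfin
  obtain ⟨hQ, heq⟩ := finrank_tensor_kaehler_ker (k := k) (A := Localization.AtPrime P) hi
  have hcot : Module.finrank (ResidueField (Localization.AtPrime P)) (CotangentSpace (Localization.AtPrime P)) = h := by
    have h1 := IsRegularLocalRing.spanFinrank_maximalIdeal (R := Localization.AtPrime P)
    rw [spanFinrank_maximalIdeal_eq_finrank_cotangentSpace, hh] at h1
    exact_mod_cast h1
  -- transport to `A`
  haveI : Algebra.FormallyEtale A (Localization.AtPrime P) := Algebra.FormallyEtale.of_isLocalization P.primeCompl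
  let e₁ := (KaehlerDifferential.tensorKaehlerEquivOfFormallyEtale k A (Localization.AtPrime P)).baseChange
    (Localization.AtPrime P) P.ResidueField
  let e₂ := TensorProduct.AlgebraTensorModule.cancelBaseChange A (Localization.AtPrime P) P.ResidueField
    P.ResidueField (Ω[A⁄k])
  let e : P.ResidueField ⊗[A] Ω[A⁄k] ≃ₗ[P.ResidueField]
      P.ResidueField ⊗[Localization.AtPrime P] Ω[Localization.AtPrime P⁄k] := e₂.symm.trans e₁
  rw [e.finrank_eq]
  have gen : ∀ (q u K W c : ℕ), q + u = K + W → K ≤ c → c = h → W ≤ s + u → q ≤ h + s :=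
    fun _ _ _ _ _ h1 h2 h3 h4 => by omega
  exact gen _ _ _ _ _ heq hkle hcot hκ

variable (k A : Type u) [Field k] [CommRing A] [IsLocalRing A] [IsNoetherianRing A] [Algebra k A]
  [IsAdicComplete (maximalIdeal A) A] [Module.Finite k (ResidueField A)]

set_option maxHeartbeats 1000000 in
/-- Generators at a geometrically regular prime in positive characteristic. -/
theorem exists_genAt_charP (p : ℕ) [Fact p.Prime] [CharP k p] (hk : (frobenius k p).Finite)
    (P q : Ideal A) [P.IsPrime] (hP : CAlg.IsGeometricallyRegular k (Localization.AtPrime P))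
    [IsRegularLocalRing (Localization.AtPrime P)] [IsDomain (Localization.AtPrime P)]
    (hq : q ∈ minimalPrimes A) (hqP : q ≤ P) (n : ℕ) (hn : ringKrullDim (A ⧸ q) = n) :
    ∃ t : Fin n → AdicCompletion (maximalIdeal A) (Ω[A⁄k]), GenAt P t := by
  -- finiteness of the differentials
  obtain ⟨r, x, hx, hr, hrad⟩ := CohenLib.exists_fin_sop A
  obtain ⟨ψ, -, hfin, -⟩ := exists_algHom_finite k x hx hrad
  haveI hΩ : Module.Finite A (Ω[A⁄k]) := by
    letI : Algebra (MvPowerSeries (Fin r) k) A := ψ.toRingHom.toAlgebra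
    haveI : IsScalarTower k (MvPowerSeries (Fin r) k) A := IsScalarTower.of_algebraMap_eq fun c => (ψ.commutes c).symm
    haveI : Module.Finite (MvPowerSeries (Fin r) k) A := hfin
    exact finite_kaehler_of_finite p hk r A
  -- coordinates on `A/P`
  let B := A ⧸ P
  haveI : IsLocalRing B := .of_surjective' (Ideal.Quotient.mk P) Ideal.Quotient.mk_surjective
  haveI := isAdicComplete_quot P
  haveI : IsLocalHom (Ideal.Quotient.mk P) := .of_surjective _ Ideal.Quotient.mk_surjective
  haveI : Module.Finite k (ResidueField B) := by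
    let g : ResidueField A →ₐ[k] ResidueField B :=
      { ResidueField.map (Ideal.Quotient.mk P) with commutes' := fun c => rfl }
    refine Module.Finite.of_surjective g.toLinearMap fun z => ?_
    obtain ⟨b, rfl⟩ := residue_surjective z
    obtain ⟨a, rfl⟩ := Ideal.Quotient.mk_surjective b
    exact ⟨residue A a, rfl⟩
  obtain ⟨s, y, hy, hs, hyrad⟩ := CohenLib.exists_fin_sop B
  obtain ⟨φ, -, hφfin, -⟩ := exists_algHom_finite k y hy hyrad
  haveI : IsDomain (MvPowerSeries (Fin s) k) := NoZeroDivisors.to_isDomain _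
  have hφinj : Function.Injective φ.toRingHom :=
    CohenLib.injective_of_finite φ.toRingHom hφfin hs (PSLib.ringKrullDim_eq k s).le
  letI : Algebra (MvPowerSeries (Fin s) k) B := φ.toRingHom.toAlgebra
  haveI : IsScalarTower k (MvPowerSeries (Fin s) k) B := IsScalarTower.of_algebraMap_eq fun c => (φ.commutes c).symm
  haveI : Module.Finite (MvPowerSeries (Fin s) k) B := hφfin
  obtain ⟨h, -, -, hh, -⟩ := CohenLib.exists_fin_sop (Localization.AtPrime P)
  have hle := finrank_fibre_le_charP p hk P hP h hh s hφinj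
  have hsum : h + s ≤ n := by
    have h1 := height_add_le_of_isDomain P q hq hqP
    have h2 : ((P.height : ℕ∞) : WithBot ℕ∞) = (h : WithBot ℕ∞) := by
      rw [← hh, IsLocalization.AtPrime.ringKrullDim_eq_height P]
    rw [h2, hs, hn] at h1
    exact_mod_cast h1
  obtain ⟨t, ht⟩ := exists_genAt P (M := Ω[A⁄k])
  obtain ⟨t', ht'⟩ := exists_genAt_pad P (hle.trans hsum) t ht
  refine ⟨fun i => AdicCompletion.of (maximalIdeal A) (Ω[A⁄k]) (t' i), fun z => ?_⟩
  obtain ⟨z, rfl⟩ := CplKaehler4.of_surj k A z
  obtain ⟨c, hc, hcz⟩ := ht' z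
  refine ⟨c, hc, ?_⟩
  have := Submodule.mem_map_of_mem (f := AdicCompletion.of (maximalIdeal A) (Ω[A⁄k])) hcz
  rw [Submodule.map_span, ← Set.range_comp, map_smul] at this
  exact this

end Groth.Agent.H1CplK
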