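import Groth.Agent.PSLib.Regular
import Groth.Agent.CoeffField.AdicSmooth
import Groth.Prelude.Def_CAlgX
import Mathlib

/-!
# Formal smoothness of power series, and along an étale localization
-/

set_option autoImplicit false
universe u
open IsLocalRing

namespace Groth.Agent.H1CplK

/-- Power series over a field are formally smooth for the adic topology. -/
theorem isAdicFormallySmooth_powerSeries (k : Type u) [Field k] (n : ℕ) :
    CAlgX.IsAdicFormallySmooth k (MvPowerSeries (Fin n) k) (maximalIdeal (MvPowerSeries (Fin n) k)) := by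
  intro C _ _ J hJ ψ hψ
  obtain ⟨j, hj⟩ := hψ
  rw [PSLib.maximalIdeal_eq_vars] at hj
  choose c hc using fun i : Fin n => Ideal.Quotient.mk_surjective (ψ (MvPowerSeries.X i))
  let I : Ideal C := Ideal.span (Set.range c)
  have hnil : ∀ i, IsNilpotent (c i) := fun i => by
    refine ⟨j * 2, ?_⟩
    have h1 : c i ^ j ∈ J := by
      rw [← Ideal.Quotient.eq_zero_iff_mem, map_pow, hc, ← map_pow]
      exact hj _ (Ideal.pow_mem_pow (Ideal.subset_span (show MvPowerSeries.X i ∈ _ from ⟨i, rfl⟩) : MvPowerSeries.X i ∈ PSLib.vars n k) j)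
    have h2 : (c i ^ j) ^ 2 ∈ J ^ 2 := Ideal.pow_mem_pow h1 2
    rw [hJ, Ideal.mem_bot, ← pow_mul] at h2
    exact h2
  obtain ⟨N, hN⟩ : IsNilpotent I := by
    refine (Ideal.FG.isNilpotent_iff_le_nilradical (Submodule.fg_span (Set.finite_range c))).mpr ?_
    refine Ideal.span_le.mpr ?_
    rintro _ ⟨i, rfl⟩
    exact hnil i
  haveI : IsAdicComplete I C := CoeffField.isAdicComplete_of_pow_eq_bot (N := N) hN
  obtain ⟨χ, hχ⟩ := PSLib.exists_algHom (R := k) I c fun i => Ideal.subset_span ⟨i, rfl⟩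
  refine ⟨χ, ?_⟩
  haveI : IsAdicComplete (I.map (Ideal.Quotient.mk J)) (C ⧸ J) :=
    CoeffField.isAdicComplete_of_pow_eq_bot (N := N) (by rw [← Ideal.map_pow, hN, Ideal.zero_eq_bot, Ideal.map_bot])
  refine PSLib.algHom_ext (I := I.map (Ideal.Quotient.mk J)) _ _ (fun i => ?_) fun i => ?_
  · show Ideal.Quotient.mk J (χ _) ∈ _
    rw [hχ]
    exact Ideal.mem_map_of_mem _ (Ideal.subset_span ⟨i, rfl⟩)
  · show Ideal.Quotient.mk J (χ _) = _
    rw [hχ, hc]

/-- Adic formal smoothness passes through a formally étale local map. -/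
theorem isAdicFormallySmooth_of_formallyEtale {k R S : Type u} [CommRing k] [CommRing R] [IsLocalRing R]
    [CommRing S] [IsLocalRing S] [Algebra k R] [Algebra k S] [Algebra R S] [IsScalarTower k R S]
    [IsLocalHom (algebraMap R S)] [Algebra.FormallyEtale R S]
    (h : CAlgX.IsAdicFormallySmooth k R (maximalIdeal R)) :
    CAlgX.IsAdicFormallySmooth k S (maximalIdeal S) := by
  intro C _ _ J hJ ψ hψ
  obtain ⟨j, hj⟩ := hψ
  obtain ⟨χ, hχ⟩ := h C J hJ (ψ.comp (IsScalarTower.toAlgHom k R S)) ⟨j, fun x hx => by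
    refine hj _ ?_
    have := Ideal.mem_map_of_mem (algebraMap R S) hx
    rw [Ideal.map_pow] at this
    exact Ideal.pow_right_mono (IsLocalRing.map_maximalIdeal_le (algebraMap R S)) j this⟩
  letI : Algebra R C := χ.toRingHom.toAlgebra
  let ψR : S →ₐ[R] C ⧸ J :=
    { ψ with commutes' := fun r => (AlgHom.congr_fun hχ r).symm }
  obtain ⟨v, hv⟩ := Algebra.FormallySmooth.exists_lift J ⟨2, by rw [hJ, Ideal.zero_eq_bot]⟩ ψR
  refine ⟨{ v.toRingHom with commutes' := fun c => ?_ }, AlgHom.ext fun x => AlgHom.congr_fun hv x⟩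
  show v (algebraMap k S c) = _
  rw [IsScalarTower.algebraMap_apply k R S, v.commutes]
  exact χ.commutes c

end Groth.Agent.H1CplK
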