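import Groth.Agent.H1CplK.Choose
import Groth.Agent.H1CplK.EtaleComp
import Groth.Agent.H1CplK.PSSmooth
import Groth.Agent.S4574
import Groth.Agent.RegLoc6.Serre
import Mathlib

/-!
# Étale coordinates on a complete local algebra
-/

set_option autoImplicit false
universe u
open IsLocalRing TensorProduct

namespace Groth.Agent.H1CplK

open CplKaehler4

theorem isRegularLocalRing_localization_powerSeries (k : Type u) [Field k] (n : ℕ)
    (p : Ideal (MvPowerSeries (Fin n) k)) [p.IsPrime] : IsRegularLocalRing (Localization.AtPrime p) := by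
  haveI := PSLib.isRegularLocalRing (K := k) (n := n)
  haveI := RegLoc6.isRegularRing_of_isRegularLocalRing (MvPowerSeries (Fin n) k)
  exact IsRegularRing.isRegularLocalRing_localization p

variable (k A : Type u) [Field k] [CommRing A] [IsLocalRing A] [IsNoetherianRing A] [Algebra k A]
  (n : ℕ) [Algebra (MvPowerSeries (Fin n) k) A] [IsScalarTower k (MvPowerSeries (Fin n) k) A]
  [Module.Finite (MvPowerSeries (Fin n) k) A]

omit [IsLocalRing A] [IsNoetherianRing A] [Algebra k A] [IsScalarTower k (MvPowerSeries (Fin n) k) A] in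
/-- An unramified point on a component of full dimension is étale. -/
theorem isEtaleAt_of_top_component (p q : Ideal A) [p.IsPrime] [q.IsPrime] (hqp : q ≤ p)
    (hq : ringKrullDim (A ⧸ q) = n) [Algebra.IsUnramifiedAt (MvPowerSeries (Fin n) k) p] :
    Algebra.IsEtaleAt (MvPowerSeries (Fin n) k) p ∧ q.map (algebraMap A (Localization.AtPrime p)) = ⊥ := by
  haveI := PSLib.isRegularLocalRing (K := k) (n := n)
  haveI : IsDomain (MvPowerSeries (Fin n) k) := NoZeroDivisors.to_isDomain _
  refine isEtaleAt_of_dominant (isRegularLocalRing_localization_powerSeries k n) p q hqp ?_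
  have hfin : ((Ideal.Quotient.mk q).comp (algebraMap (MvPowerSeries (Fin n) k) A)).Finite :=
    RingHom.finite_algebraMap.mpr (inferInstance : Module.Finite (MvPowerSeries (Fin n) k) (A ⧸ q))
  have hinj := CohenLib.injective_of_finite _ hfin hq (PSLib.ringKrullDim_eq k n).le
  rw [RingHom.injective_iff_ker_eq_bot, ← RingHom.comap_ker, Ideal.mk_ker] at hinj
  exact hinj

set_option maxHeartbeats 1000000 in
/-- At an étale point over power series the algebra is geometrically regular. -/
theorem isGeometricallyRegular_of_etaleAt (p : Ideal A) [p.IsPrime]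
    [Algebra.IsEtaleAt (MvPowerSeries (Fin n) k) p] :
    CAlg.IsGeometricallyRegular k (Localization.AtPrime p) := by
  haveI := PSLib.isRegularLocalRing (K := k) (n := n)
  let p₀ := p.comap (algebraMap (MvPowerSeries (Fin n) k) A)
  haveI : p.LiesOver p₀ := ⟨rfl⟩
  letI := Localization.AtPrime.algebraOfLiesOver p₀ p
  haveI : IsLocalHom (algebraMap (Localization.AtPrime p₀) (Localization.AtPrime p)) :=
    Localization.isLocalHom_localRingHom _ _ _ _
  haveI : Algebra.FormallyEtale (Localization.AtPrime p₀) (Localization.AtPrime p) :=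
    Algebra.FormallyEtale.localization_base p₀.primeCompl
  haveI : IsScalarTower k (Localization.AtPrime p₀) (Localization.AtPrime p) :=
    IsScalarTower.of_algebraMap_eq fun c => by
      rw [IsScalarTower.algebraMap_apply k (MvPowerSeries (Fin n) k) (Localization.AtPrime p₀),
        ← IsScalarTower.algebraMap_apply (MvPowerSeries (Fin n) k) (Localization.AtPrime p₀) (Localization.AtPrime p),
        IsScalarTower.algebraMap_apply (MvPowerSeries (Fin n) k) A (Localization.AtPrime p),
        ← IsScalarTower.algebraMap_apply k (MvPowerSeries (Fin n) k) A,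
        ← IsScalarTower.algebraMap_apply k A (Localization.AtPrime p)]
  exact RegFS6.geometricallyRegular_of_fs (isAdicFormallySmooth_of_formallyEtale
    (Groth.Agent.S4574.result (isAdicFormallySmooth_powerSeries k n) p₀))

variable [IsAdicComplete (maximalIdeal A) A] [Module.Finite k (ResidueField A)]

set_option maxHeartbeats 1000000 in
omit [Algebra (MvPowerSeries (Fin n) k) A] [IsScalarTower k (MvPowerSeries (Fin n) k) A]
  [Module.Finite (MvPowerSeries (Fin n) k) A] in
/-- Generators in the number of the dimension of a component killed in the local ring form a basis. -/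
theorem free_of_gen (p q : Ideal A) [p.IsPrime] [q.IsPrime] (hqp : q ≤ p)
    (hq : ringKrullDim (A ⧸ q) = n) (hq0 : q.map (algebraMap A (Localization.AtPrime p)) = ⊥)
    (s : Fin n → AdicCompletion (maximalIdeal A) (Ω[A⁄k])) (hs : GenAt p s) :
    Module.Free (Localization.AtPrime p) (LocalizedModule p.primeCompl (AdicCompletion (maximalIdeal A) (Ω[A⁄k]))) ∧
      Module.finrank (Localization.AtPrime p) (LocalizedModule p.primeCompl (AdicCompletion (maximalIdeal A) (Ω[A⁄k]))) = n := by
  classical
  haveI := CplKaehler4.finite_completion k A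
  let M := AdicCompletion (maximalIdeal A) (Ω[A⁄k])
  let v : Fin n → LocalizedModule p.primeCompl M := fun i => LocalizedModule.mkLinearMap p.primeCompl M (s i)
  have hsp : Submodule.span (Localization.AtPrime p) (Set.range v) = ⊤ := (genAt_iff_localized p s).mp hs
  have hli : LinearIndependent (Localization.AtPrime p) v := by
    rw [Fintype.linearIndependent_iff]
    intro c hc i
    by_contra hci
    obtain ⟨⟨d, hd⟩, hdc⟩ := IsLocalization.exist_integer_multiples_of_finset p.primeCompl (Finset.univ.image c)
    choose a ha using fun j => hdc (c j) (Finset.mem_image_of_mem c (Finset.mem_univ j))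
    have hai : a i ∉ q := by
      intro hmem
      have h0 : algebraMap A (Localization.AtPrime p) (a i) = 0 :=
        (Submodule.mem_bot _).mp (hq0 ▸ Ideal.mem_map_of_mem _ hmem)
      rw [ha i, Algebra.smul_def] at h0
      exact hci ((IsLocalization.map_units (Localization.AtPrime p) (⟨d, hd⟩ : p.primeCompl)).mul_right_eq_zero.mp h0)
    have hsum : LocalizedModule.mkLinearMap p.primeCompl M (∑ j, a j • s j) = 0 := by
      rw [map_sum]
      simp_rw [map_smul, ← algebraMap_smul (Localization.AtPrime p) (a _)]
      simp_rw [ha, smul_assoc]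
      rw [← Finset.smul_sum, hc, smul_zero]
    obtain ⟨u, hu⟩ := (IsLocalizedModule.eq_zero_iff p.primeCompl _).mp hsum
    -- the fibre at `q` is then too small
    let w : Fin n → q.ResidueField ⊗[A] M := fun j => (1 : q.ResidueField) ⊗ₜ[A] s j
    have hsq : GenAt q s := fun y => by
      obtain ⟨e, he, hy⟩ := hs y
      exact ⟨e, fun h => he (hqp h), hy⟩
    have hspan := genAt_fibre q hsq
    have hrel : ∑ j, algebraMap A q.ResidueField ((u : A) * a j) • w j = 0 := by
      simp only [w, algebraMap_smul, ← tmul_smul, ← tmul_sum, mul_smul]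
      rw [← Finset.smul_sum, ← Submonoid.smul_def, hu, tmul_zero]
    have hnli : ¬ LinearIndependent q.ResidueField w := fun h => by
      have := Ideal.algebraMap_residueField_eq_zero.mp (Fintype.linearIndependent_iff.mp h _ hrel i)
      rcases (‹q.IsPrime›.mem_or_mem this) with h1 | h1
      · exact u.2 (hqp h1)
      · exact hai h1
    have hlt : Module.finrank q.ResidueField (q.ResidueField ⊗[A] M) < n := by
      refine lt_of_le_of_ne (finrank_fibre_le q hsq) fun h => hnli ?_
      exact linearIndependent_of_top_le_span_of_card_eq_finrank hspan.ge (by rw [Fintype.card_fin, h])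
    obtain ⟨t, ht⟩ := exists_genAt q (M := M)
    have hle := dim_quot_le_of_genAt k A q q le_rfl t ht
    rw [hq, Nat.cast_le] at hle
    omega
  let B := Module.Basis.mk hli hsp.ge
  exact ⟨Module.Free.of_basis B, by rw [Module.finrank_eq_card_basis B, Fintype.card_fin]⟩

set_option maxHeartbeats 1000000 in
omit [Algebra (MvPowerSeries (Fin n) k) A] [IsScalarTower k (MvPowerSeries (Fin n) k) A]
  [Module.Finite (MvPowerSeries (Fin n) k) A] in
/-- The main statement: `n = dim A` generators force étale coordinates, freeness and geometric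
regularity. -/
theorem of_gen_dim (hn : ringKrullDim A = n) (p : Ideal A) [p.IsPrime] (hp : p ≠ maximalIdeal A)
    (hq : ∃ q ∈ minimalPrimes A, q ≤ p ∧ ringKrullDim (A ⧸ q) = n)
    (hgen : ∃ s : Fin n → LocalizedModule p.primeCompl (AdicCompletion (maximalIdeal A) (Ω[A⁄k])),
      Submodule.span (Localization.AtPrime p) (Set.range s) = ⊤) :
    (∃ (_ : Algebra (MvPowerSeries (Fin n) k) A) (_ : IsScalarTower k (MvPowerSeries (Fin n) k) A),
      IsLocalHom (algebraMap (MvPowerSeries (Fin n) k) A) ∧ Module.Finite (MvPowerSeries (Fin n) k) A ∧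
        Algebra.IsEtaleAt (MvPowerSeries (Fin n) k) p) ∧
    (Module.Free (Localization.AtPrime p) (LocalizedModule p.primeCompl (AdicCompletion (maximalIdeal A) (Ω[A⁄k]))) ∧
      Module.finrank (Localization.AtPrime p) (LocalizedModule p.primeCompl (AdicCompletion (maximalIdeal A) (Ω[A⁄k]))) = n) ∧
      CAlg.IsGeometricallyRegular k (Localization.AtPrime p) := by
  obtain ⟨alg, tower, hloc, hfin, hun⟩ := exists_unramified k A p hp (by rw [hn]; exact hq) n hgen
  obtain ⟨q, hqmin, hqp, hqd⟩ := hq
  haveI : q.IsPrime := hqmin.1.1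
  letI := alg
  haveI := tower
  haveI := hfin
  haveI := hun
  obtain ⟨het, hbot⟩ := isEtaleAt_of_top_component k A n p q hqp hqd
  haveI := het
  refine ⟨⟨alg, tower, hloc, hfin, het⟩, ?_, isGeometricallyRegular_of_etaleAt k A n p⟩
  exact free_of_gen k A n p q hqp hqd hbot _ ((genAt_iff_unramifiedAt p).mpr hun)

end Groth.Agent.H1CplK
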