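import Groth.Agent.CoeffField.Smooth
import Groth.Prelude.Def_EGA41
import Mathlib

/-!
# The rank of the differentials of a formally smooth local algebra over a field
-/

set_option autoImplicit false
universe u
open IsLocalRing TensorProduct

namespace Groth.Agent.H1CplK

/-- Bookkeeping for the square comparing absolute and relative differentials. -/
theorem finrank_square {K U W Q Ω Ω' : Type u} [Field K] [AddCommGroup U] [Module K U] [AddCommGroup W]
    [Module K W] [AddCommGroup Q] [Module K Q] [AddCommGroup Ω] [Module K Ω] [AddCommGroup Ω'] [Module K Ω']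
    (α : U →ₗ[K] W) (β : W →ₗ[K] Q) (γ : W →ₗ[K] Ω) (δ : Q →ₗ[K] Ω') (μ : Ω →ₗ[K] Ω')
    (hα : Function.Injective α) (hαβ : Function.Exact α β) (hβ : Function.Surjective β)
    (hδ : Function.Surjective δ) (hcomm : ∀ w, δ (β w) = μ (γ w))
    (hμ : LinearMap.ker μ ≤ LinearMap.range (γ ∘ₗ α))
    [Module.Finite K (LinearMap.ker γ)] [Module.Finite K Ω'] :
    Module.Finite K Q ∧ Module.finrank K Q + Module.finrank K (LinearMap.ker (γ ∘ₗ α)) =
      Module.finrank K (LinearMap.ker γ) + Module.finrank K Ω' := by
  let φ : LinearMap.ker γ →ₗ[K] LinearMap.ker δ :=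
    (β ∘ₗ (LinearMap.ker γ).subtype).codRestrict _ fun w => by
      rw [LinearMap.mem_ker]
      show δ (β w) = 0
      rw [hcomm, LinearMap.mem_ker.mp w.2, map_zero]
  have hφ : Function.Surjective φ := by
    rintro ⟨q, hq⟩
    obtain ⟨w, rfl⟩ := hβ q
    have hw : γ w ∈ LinearMap.ker μ := by
      rw [LinearMap.mem_ker, ← hcomm]
      exact LinearMap.mem_ker.mp hq
    obtain ⟨u, hu⟩ := hμ hw
    refine ⟨⟨w - α u, ?_⟩, Subtype.ext ?_⟩
    · rw [LinearMap.mem_ker, map_sub]
      exact sub_eq_zero.mpr hu.symm
    · show β (w - α u) = β w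
      rw [map_sub, (hαβ (α u)).mpr ⟨u, rfl⟩, sub_zero]
  let ψ : LinearMap.ker (γ ∘ₗ α) →ₗ[K] LinearMap.ker φ :=
    ((α ∘ₗ (LinearMap.ker (γ ∘ₗ α)).subtype).codRestrict (LinearMap.ker γ) fun u => u.2).codRestrict _ fun u => by
      rw [LinearMap.mem_ker]
      refine Subtype.ext ?_
      exact (hαβ (α u.1)).mpr ⟨u.1, rfl⟩
  have hψ : Function.Bijective ψ := by
    constructor
    · intro a b h
      exact Subtype.ext (hα (congrArg (fun x : LinearMap.ker φ => (x.1 : W)) h))
    · rintro ⟨⟨w, hw⟩, hw'⟩
      obtain ⟨u, rfl⟩ := (hαβ w).mp (congrArg Subtype.val (LinearMap.mem_ker.mp hw'))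
      exact ⟨⟨u, hw⟩, rfl⟩
  haveI : Module.Finite K (LinearMap.ker δ) := Module.Finite.of_surjective φ hφ
  haveI : Module.Finite K (LinearMap.range δ) := by
    rw [LinearMap.range_eq_top.mpr hδ]
    exact Module.Finite.equiv Submodule.topEquiv.symm
  haveI : Module.Finite K Q := ⟨Submodule.fg_of_fg_map_of_fg_inf_ker δ
    (by rw [Submodule.map_top, LinearMap.range_eq_top.mpr hδ]; exact Module.Finite.fg_top)
    (by rw [top_inf_eq]; exact Module.Finite.iff_fg.mp inferInstance)⟩
  refine ⟨inferInstance, ?_⟩
  have h1 := LinearMap.finrank_range_add_finrank_ker φ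
  rw [LinearMap.range_eq_top.mpr hφ, finrank_top] at h1
  have h2 := LinearMap.finrank_range_add_finrank_ker δ
  rw [LinearMap.range_eq_top.mpr hδ, finrank_top] at h2
  rw [(LinearEquiv.ofBijective ψ hψ).finrank_eq, ← h1, ← h2]
  ring

variable {k A : Type u} [Field k] [CommRing A] [IsLocalRing A] [IsNoetherianRing A] [Algebra k A]

/-- With a coefficient field, `𝔪/𝔪² → K ⊗ Ω_{A/ℤ}` is injective. -/
theorem kerCotangentToTensor_injective (σ : ResidueField A →+* A) (hσ : ∀ x, residue A (σ x) = x) :
    Function.Injective (KaehlerDifferential.kerCotangentToTensor ℤ A (ResidueField A)) := by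
  set C := (RingHom.ker (algebraMap A (ResidueField A))).Cotangent
  have hmem : ∀ a : A, a - σ (residue A a) ∈ RingHom.ker (algebraMap A (ResidueField A)) := fun a => by
    rw [RingHom.mem_ker, map_sub, IsLocalRing.ResidueField.algebraMap_eq, hσ, sub_self]
  let t : A → C := fun a => Ideal.toCotangent _ ⟨a - σ (residue A a), hmem a⟩
  let d₀ : A →ₗ[ℤ] C :=
    ({ toFun := t
       map_zero' := by
        show Ideal.toCotangent _ _ = _
        rw [show (⟨(0 : A) - σ (residue A 0), hmem 0⟩ : RingHom.ker (algebraMap A (ResidueField A))) = 0 from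
          Subtype.ext (by simp), map_zero]
       map_add' := fun a b => by
        show Ideal.toCotangent _ _ = Ideal.toCotangent _ _ + Ideal.toCotangent _ _
        rw [← map_add]
        exact congrArg _ (Subtype.ext (by simp only [Submodule.coe_add, map_add]; ring)) } : A →+ C).toIntLinearMap
  have hleib : ∀ a b : A, t (a * b) = a • t b + b • t a := fun a b => by
    show Ideal.toCotangent _ _ = a • Ideal.toCotangent _ _ + b • Ideal.toCotangent _ _
    rw [← map_smul, ← map_smul, ← map_add, Ideal.toCotangent_eq]
    have heq : a * b - σ (residue A (a * b)) - (a * (b - σ (residue A b)) + b * (a - σ (residue A a))) =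
        -((a - σ (residue A a)) * (b - σ (residue A b))) := by
      rw [map_mul, map_mul]; ring
    simp only [Submodule.coe_add, SetLike.val_smul, smul_eq_mul]
    rw [heq, pow_two]
    exact neg_mem (Ideal.mul_mem_mul (hmem a) (hmem b))
  let d : Derivation ℤ A C :=
    { toLinearMap := d₀
      map_one_eq_zero' := by
        show t 1 = 0
        have := hleib 1 1
        rw [mul_one, one_smul] at this
        exact left_eq_add.mp this
      leibniz' := hleib }
  rw [injective_iff_map_eq_zero]
  intro x hx
  obtain ⟨a, rfl⟩ := Ideal.toCotangent_surjective _ x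
  rw [KaehlerDifferential.kerCotangentToTensor_toCotangent] at hx
  have hD : KaehlerDifferential.D ℤ A a.1 ∈ (maximalIdeal A • ⊤ : Submodule A (Ω[A⁄ℤ])) := by
    have hz := congrArg (TensorProduct.quotTensorEquivQuotSMul (Ω[A⁄ℤ]) (maximalIdeal A)) hx
    refine (Submodule.Quotient.mk_eq_zero _).mp (Eq.trans ?_ (hz.trans (LinearEquiv.map_zero _)))
    exact ((TensorProduct.quotTensorEquivQuotSMul_mk_tmul (maximalIdeal A) 1 _).trans (by rw [one_smul])).symm
  have h2 : d.liftKaehlerDifferential (KaehlerDifferential.D ℤ A a.1) = 0 := by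
    refine Submodule.smul_induction_on hD (fun r hr y _ => ?_) fun y z hy hz => by rw [map_add, hy, hz, add_zero]
    rw [map_smul]
    obtain ⟨c, hc⟩ := Ideal.toCotangent_surjective _ (d.liftKaehlerDifferential y)
    rw [← hc, ← map_smul, Ideal.toCotangent_eq_zero]
    rw [SetLike.val_smul, smul_eq_mul, pow_two]
    refine Ideal.mul_mem_mul ?_ c.2
    rw [RingHom.mem_ker, IsLocalRing.ResidueField.algebraMap_eq, residue_eq_zero_iff]
    exact hr
  rw [Derivation.liftKaehlerDifferential_comp_D] at h2
  refine Eq.trans ?_ h2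
  show Ideal.toCotangent _ a = Ideal.toCotangent _ _
  refine congrArg _ (Subtype.ext ?_)
  have : residue A a.1 = 0 := RingHom.mem_ker.mp a.2
  show a.1 = a.1 - σ (residue A a.1)
  rw [this, map_zero, sub_zero]

/-- Equal ideals have the same cotangent space. -/
def cotangentCast {R : Type u} [CommRing R] {I J : Ideal R} (h : I = J) : I.Cotangent ≃ₗ[R] J.Cotangent := by
  subst h
  exact LinearEquiv.refl R _

/-- The kernel of `K ⊗ Ω_{A/ℤ} → Ω_{K/ℤ}` is the cotangent space, given a coefficient field. -/
theorem finrank_ker_mapBaseChange (σ : ResidueField A →+* A) (hσ : ∀ x, residue A (σ x) = x) :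
    Module.Finite (ResidueField A) (LinearMap.ker (KaehlerDifferential.mapBaseChange ℤ A (ResidueField A))) ∧
    Module.finrank (ResidueField A) (LinearMap.ker (KaehlerDifferential.mapBaseChange ℤ A (ResidueField A))) =
      Module.finrank (ResidueField A) (CotangentSpace A) := by
  have hker : RingHom.ker (algebraMap A (ResidueField A)) = maximalIdeal A := IsLocalRing.ker_residue
  let e₀ : CotangentSpace A ≃ₗ[A] (RingHom.ker (algebraMap A (ResidueField A))).Cotangent :=
    cotangentCast hker.symm
  let f₀ : (RingHom.ker (algebraMap A (ResidueField A))).Cotangent →ₗ[A]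
      LinearMap.ker (KaehlerDifferential.mapBaseChange ℤ A (ResidueField A)) :=
    (KaehlerDifferential.kerCotangentToTensor ℤ A (ResidueField A)).codRestrict
      ((LinearMap.ker (KaehlerDifferential.mapBaseChange ℤ A (ResidueField A))).restrictScalars A) fun x => by
        rw [← KaehlerDifferential.range_kerCotangentToTensor ℤ A (ResidueField A) IsLocalRing.residue_surjective]
        exact ⟨x, rfl⟩
  have hf : Function.Bijective f₀ := by
    refine ⟨fun a b h => kerCotangentToTensor_injective σ hσ (congrArg Subtype.val h), fun y => ?_⟩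
    have hy : (y.1) ∈ (LinearMap.ker (KaehlerDifferential.mapBaseChange ℤ A (ResidueField A))).restrictScalars A := y.2
    rw [← KaehlerDifferential.range_kerCotangentToTensor ℤ A (ResidueField A) IsLocalRing.residue_surjective] at hy
    obtain ⟨x, hx⟩ := hy
    exact ⟨x, Subtype.ext hx⟩
  let e : CotangentSpace A ≃ₗ[A] LinearMap.ker (KaehlerDifferential.mapBaseChange ℤ A (ResidueField A)) :=
    e₀.trans (LinearEquiv.ofBijective f₀ hf)
  let e' := e.extendScalarsOfSurjective (R := A) (S := ResidueField A) IsLocalRing.residue_surjective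
  exact ⟨Module.Finite.equiv e', e'.finrank_eq.symm⟩

set_option maxHeartbeats 1000000 in
/-- The rank of `K ⊗ Ω_{A/k}` when `K ⊗ Ω_{k/ℤ} → K ⊗ Ω_{A/ℤ}` is injective. -/
theorem finrank_tensor_kaehler_ker
    (hinj : Function.Injective ((KaehlerDifferential.mapBaseChange ℤ k A).lTensor (ResidueField A)))
    [Module.Finite (ResidueField A) (LinearMap.ker (KaehlerDifferential.mapBaseChange ℤ A (ResidueField A)))]
    [Module.Finite (ResidueField A) (Ω[ResidueField A⁄k])] :
    Module.Finite (ResidueField A) (ResidueField A ⊗[A] Ω[A⁄k]) ∧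
    Module.finrank (ResidueField A) (ResidueField A ⊗[A] Ω[A⁄k]) +
        Module.finrank (ResidueField A) (EGA41.imperfection ℤ k (ResidueField A)) =
      Module.finrank (ResidueField A) (LinearMap.ker (KaehlerDifferential.mapBaseChange ℤ A (ResidueField A))) +
        Module.finrank (ResidueField A) (Ω[ResidueField A⁄k]) := by
  let cbc : ResidueField A ⊗[A] (A ⊗[k] Ω[k⁄ℤ]) ≃ₗ[ResidueField A] ResidueField A ⊗[k] Ω[k⁄ℤ] :=
    TensorProduct.AlgebraTensorModule.cancelBaseChange k A (ResidueField A) (ResidueField A) (Ω[k⁄ℤ])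
  let α : ResidueField A ⊗[k] Ω[k⁄ℤ] →ₗ[ResidueField A] ResidueField A ⊗[A] Ω[A⁄ℤ] :=
    (KaehlerDifferential.mapBaseChange ℤ k A).baseChange (ResidueField A) ∘ₗ cbc.symm.toLinearMap
  let β : ResidueField A ⊗[A] Ω[A⁄ℤ] →ₗ[ResidueField A] ResidueField A ⊗[A] Ω[A⁄k] :=
    (KaehlerDifferential.map ℤ k A A).baseChange (ResidueField A)
  let μ : Ω[ResidueField A⁄ℤ] →ₗ[ResidueField A] Ω[ResidueField A⁄k] :=
    KaehlerDifferential.map ℤ k (ResidueField A) (ResidueField A)
  have hγα : KaehlerDifferential.mapBaseChange ℤ A (ResidueField A) ∘ₗ α =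
      KaehlerDifferential.mapBaseChange ℤ k (ResidueField A) := by
    refine TensorProduct.AlgebraTensorModule.ext fun x y => ?_
    have hy : y ∈ Submodule.span k (Set.range (KaehlerDifferential.D ℤ k)) := by
      rw [KaehlerDifferential.span_range_derivation]; exact Submodule.mem_top
    induction hy using Submodule.span_induction with
    | mem y h =>
      obtain ⟨c, rfl⟩ := h
      simp [α, cbc]
      rfl
    | zero => simp
    | add a b _ _ ha hb => rw [tmul_add, map_add, map_add, ha, hb]
    | smul c a _ ha => rw [tmul_smul, LinearMap.map_smul_of_tower, LinearMap.map_smul_of_tower, ha]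
  have hαβ : Function.Exact α β := by
    have h := lTensor_exact (ResidueField A) (KaehlerDifferential.exact_mapBaseChange_map ℤ k A)
      (KaehlerDifferential.map_surjective ℤ k A)
    intro w
    rw [show β w = (KaehlerDifferential.map ℤ k A A).lTensor (ResidueField A) w from rfl, h w]
    constructor
    · rintro ⟨u, rfl⟩
      exact ⟨cbc u, by simp [α]; rfl⟩
    · rintro ⟨u, rfl⟩
      exact ⟨cbc.symm u, rfl⟩
  have hμ : LinearMap.ker μ ≤
      LinearMap.range (KaehlerDifferential.mapBaseChange ℤ A (ResidueField A) ∘ₗ α) := by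
    rw [hγα, KaehlerDifferential.range_mapBaseChange]
  have hδ : Function.Surjective (KaehlerDifferential.mapBaseChange k A (ResidueField A)) :=
    KaehlerDifferential.mapBaseChange_surjective k A (ResidueField A) IsLocalRing.residue_surjective
  have hcomm : ∀ w, KaehlerDifferential.mapBaseChange k A (ResidueField A) (β w) =
      μ (KaehlerDifferential.mapBaseChange ℤ A (ResidueField A) w) := by
    intro w
    induction w with
    | zero => simp
    | add a b ha hb => simp only [map_add, ha, hb]
    | tmul x y =>
      have hy : y ∈ Submodule.span A (Set.range (KaehlerDifferential.D ℤ A)) := by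
        rw [KaehlerDifferential.span_range_derivation]; exact Submodule.mem_top
      induction hy using Submodule.span_induction with
      | mem y h =>
        obtain ⟨c, rfl⟩ := h
        simp [β, μ]
      | zero => simp
      | add a b _ _ ha hb => simp only [tmul_add, map_add, ha, hb]
      | smul c a _ ha =>
        rw [tmul_smul, LinearMap.map_smul_of_tower, LinearMap.map_smul_of_tower, LinearMap.map_smul_of_tower,
          LinearMap.map_smul_of_tower, ha]
  obtain ⟨hQ, heq⟩ := finrank_square α β (KaehlerDifferential.mapBaseChange ℤ A (ResidueField A))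
    (KaehlerDifferential.mapBaseChange k A (ResidueField A)) μ (hinj.comp cbc.symm.injective) hαβ
    (LinearMap.lTensor_surjective _ (KaehlerDifferential.map_surjective ℤ k A)) hδ hcomm hμ
  refine ⟨hQ, ?_⟩
  rw [hγα] at heq
  exact heq

/-- The rank of `K ⊗ Ω_{A/k}` with a coefficient field. -/
theorem finrank_tensor_kaehler
    (hinj : Function.Injective ((KaehlerDifferential.mapBaseChange ℤ k A).lTensor (ResidueField A)))
    (σ : ResidueField A →+* A) (hσ : ∀ x, residue A (σ x) = x)
    [Module.Finite (ResidueField A) (Ω[ResidueField A⁄k])] :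
    Module.Finite (ResidueField A) (ResidueField A ⊗[A] Ω[A⁄k]) ∧
    Module.finrank (ResidueField A) (ResidueField A ⊗[A] Ω[A⁄k]) +
        Module.finrank (ResidueField A) (EGA41.imperfection ℤ k (ResidueField A)) =
      Module.finrank (ResidueField A) (CotangentSpace A) + Module.finrank (ResidueField A) (Ω[ResidueField A⁄k]) := by
  obtain ⟨hfin, hN⟩ := finrank_ker_mapBaseChange σ hσ
  rw [← hN]
  exact finrank_tensor_kaehler_ker hinj

omit [IsNoetherianRing A] in
/-- The kernel of `K ⊗ Ω_{A/ℤ} → Ω_{K/ℤ}` is a quotient of the cotangent space. -/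
theorem finrank_ker_mapBaseChange_le [IsNoetherianRing A] :
    Module.Finite (ResidueField A) (LinearMap.ker (KaehlerDifferential.mapBaseChange ℤ A (ResidueField A))) ∧
    Module.finrank (ResidueField A) (LinearMap.ker (KaehlerDifferential.mapBaseChange ℤ A (ResidueField A))) ≤
      Module.finrank (ResidueField A) (CotangentSpace A) := by
  let e₀ : CotangentSpace A ≃ₗ[A] (RingHom.ker (algebraMap A (ResidueField A))).Cotangent :=
    cotangentCast IsLocalRing.ker_residue.symm
  let f₀ : (RingHom.ker (algebraMap A (ResidueField A))).Cotangent →ₗ[A]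
      LinearMap.ker (KaehlerDifferential.mapBaseChange ℤ A (ResidueField A)) :=
    (KaehlerDifferential.kerCotangentToTensor ℤ A (ResidueField A)).codRestrict
      ((LinearMap.ker (KaehlerDifferential.mapBaseChange ℤ A (ResidueField A))).restrictScalars A) fun x => by
        rw [← KaehlerDifferential.range_kerCotangentToTensor ℤ A (ResidueField A) IsLocalRing.residue_surjective]
        exact ⟨x, rfl⟩
  have hf : Function.Surjective f₀ := fun y => by
    have hy : (y.1) ∈ (LinearMap.ker (KaehlerDifferential.mapBaseChange ℤ A (ResidueField A))).restrictScalars A := y.2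
    rw [← KaehlerDifferential.range_kerCotangentToTensor ℤ A (ResidueField A) IsLocalRing.residue_surjective] at hy
    obtain ⟨x, hx⟩ := hy
    exact ⟨x, Subtype.ext hx⟩
  let f := (f₀ ∘ₗ e₀.toLinearMap).extendScalarsOfSurjective (S := ResidueField A) IsLocalRing.residue_surjective
  have hs : Function.Surjective f := hf.comp e₀.surjective
  exact ⟨Module.Finite.of_surjective f hs, LinearMap.finrank_le_finrank_of_surjective hs⟩

end Groth.Agent.H1CplK
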